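import Groth.Agent.Etalg.RamWeak
import Groth.Agent.Etalg.RamDVR
import Groth.Agent.Etalg.RamDict
import Groth.Agent.Etalg.ResTop
import Groth.Agent.EtAlg.K363.UnrExt
import Mathlib.RingTheory.Unramified.LocalRing
import Mathlib.FieldTheory.IsSepClosed

/-!
# Maximal unramified extensions inside an algebraically closed valued field

`O` is a valuation subring of a field `Ω` dominating the discrete valuation ring `A` with fraction field `K`.

* `unr_at`: a root `z` of a monic polynomial `F` over `A` with `F'(z)` a unit at `V` generates an extension which is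
  unramified at `V`.
* `Good π g O x`: `x` is separable over `K`, its value is a power of that of `π`, its residue class is separable.
* `SRClosed O F`: the subfield `F` contains the roots `α` of the monic polynomials over `O ∩ F` with `g'(α)` a unit.
* `good_step`: adjoining such a root to a field of good elements gives a field of good elements.
* `isSepClosed_residueField`: the residue field of `O ∩ F` is separably closed for an etale closed `F`.
-/

set_option autoImplicit false
universe u

open IsLocalRing EtRam Groth.Agent.Etalg Groth.Agent.Etalg.RamBasic Groth.Agent.Etalg.ResInd Polynomial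

namespace K420.EtClosed

/-- `K363.RamCases.unrExt`, at one valuation subring. -/
theorem unr_at {A K L : Type u} [CommRing A] [IsDomain A] [IsDiscreteValuationRing A]
    [Field K] [Algebra A K] [IsFractionRing A K] [Field L] [Algebra K L] [Algebra A L]
    [IsScalarTower A K L] [FiniteDimensional K L] [Algebra.IsSeparable K L]
    (F : A[X]) (hF : F.Monic) (z : L) (hz : aeval z F = 0) (hadj : Algebra.adjoin K {z} = ⊤)
    (V : ValuationSubring L) (h : Dominates A (algebraMap A L) V)
    (hd : 1 ≤ V.valuation (aeval z F.derivative)) :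
    letI : Algebra A V := (RingHom.codRestrict (algebraMap A L) V h.1).toAlgebra
    ∀ [IsLocalHom (algebraMap A V)],
      IsWeaklyUnramified A V ∧ Algebra.IsSeparable (ResidueField A) (ResidueField V) := by
  let _ : Algebra A V := (RingHom.codRestrict (algebraMap A L) V h.1).toAlgebra
  intro hloc
  let C := integralClosure A L
  have hfin : Module.Finite A C := IsIntegralClosure.finite A K L C
  have hD : IsDedekindDomain C := integralClosure.isDedekindDomain A K L
  have hfrac : IsFractionRing C L := IsIntegralClosure.isFractionRing_of_finite_extension A K L C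
  have hinjL : Function.Injective (algebraMap A L) := by
    rw [IsScalarTower.algebraMap_eq A K L]
    exact (algebraMap K L).injective.comp (IsFractionRing.injective A K)
  have hinj : Function.Injective (algebraMap A C) := by
    intro x y hxy
    apply hinjL
    rw [IsScalarTower.algebraMap_apply A C L, hxy, ← IsScalarTower.algebraMap_apply A C L]
  have hfs : FaithfulSMul A C := (faithfulSMul_iff_algebraMap_injective A C).2 hinj
  have htf : Module.IsTorsionFree A C := inferInstance
  have hzint : IsIntegral A z := ⟨F, hF, hz⟩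
  let b : C := ⟨z, hzint⟩
  have hbz : algebraMap C L b = z := rfl
  have hb : aeval b F = 0 := by
    apply IsFractionRing.injective C L
    rw [← aeval_algebraMap_apply, hbz, hz, map_zero]
  have hP : (RamDict.center C h.1).IsPrime := inferInstance
  have hunr : Algebra.IsUnramifiedAt A (RamDict.center C h.1) := by
    refine K363.RamCases.isUnramifiedAt_of_deriv A K L C F hF b hb (by rw [hbz]; exact hadj) _ ?_
    rw [RamDict.mem_center_iff, ← aeval_algebraMap_apply, hbz]
    exact not_lt.2 hd
  let _ : Algebra C V := (RamDict.toV C h.1).toAlgebra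
  have htow : IsScalarTower A C V := IsScalarTower.of_algebraMap_eq fun a ↦
    Subtype.ext (IsScalarTower.algebraMap_apply A C L a)
  have hlocz : IsLocalization.AtPrime V (RamDict.center C h.1) :=
    RamDict.isLocalization_atPrime C hinjL h
  have hunrV : Algebra.FormallyUnramified A V := by
    have e : Localization.AtPrime (RamDict.center C h.1) ≃ₐ[C] V :=
      IsLocalization.algEquiv (RamDict.center C h.1).primeCompl _ _
    have := hunr
    exact Algebra.FormallyUnramified.of_equiv (e.restrictScalars A)
  have hessC : Algebra.EssFiniteType C V :=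
    Algebra.EssFiniteType.of_isLocalization V (RamDict.center C h.1).primeCompl
  have hess : Algebra.EssFiniteType A V := Algebra.EssFiniteType.comp A C V
  exact (Algebra.FormallyUnramified.iff_map_maximalIdeal_eq.1 hunrV).symm

/-- The residue class of `x` is separable over the residue field of `A` iff `x` is, modulo the maximal ideal, a
simple root of a polynomial over `A`. -/
theorem isSeparable_residue_iff {A V : Type u} [CommRing A] [IsLocalRing A] [CommRing V] [IsLocalRing V]
    [Algebra A V] [IsLocalHom (algebraMap A V)] (x : V) :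
    IsSeparable (ResidueField A) (residue V x) ↔
      ∃ h : A[X], aeval x h ∈ maximalIdeal V ∧ aeval x h.derivative ∉ maximalIdeal V := by
  have key : ∀ h : A[X], aeval (residue V x) (h.map (residue A)) = residue V (aeval x h) := by
    intro h
    rw [aeval_def, aeval_def, eval₂_map, hom_eval₂]
    rfl
  constructor
  · intro hs
    obtain ⟨h, hh⟩ := Polynomial.map_surjective (residue A) residue_surjective
      (minpoly (ResidueField A) (residue V x))
    refine ⟨h, ?_, ?_⟩
    · rw [← residue_eq_zero_iff, ← key, hh, minpoly.aeval]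
    · rw [← residue_eq_zero_iff, ← key, ← derivative_map, hh]
      have h1 : (minpoly (ResidueField A) (residue V x)).Separable := hs
      exact h1.aeval_derivative_ne_zero (minpoly.aeval _ _)
  · rintro ⟨h, h0, h1⟩
    rw [← residue_eq_zero_iff, ← key] at h0 h1
    rw [← derivative_map] at h1
    have hne : h.map (residue A) ≠ 0 := by
      intro h2
      rw [h2, derivative_zero, map_zero] at h1
      exact h1 rfl
    have hint : IsIntegral (ResidueField A) (residue V x) :=
      IsAlgebraic.isIntegral ⟨_, hne, h0⟩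
    obtain ⟨q, hq⟩ := minpoly.dvd _ _ h0
    show (minpoly (ResidueField A) (residue V x)).Separable
    rw [separable_iff_derivative_ne_zero (minpoly.irreducible hint)]
    intro hd
    apply h1
    rw [hq, derivative_mul, map_add, map_mul, map_mul, hd, minpoly.aeval, map_zero, zero_mul, zero_mul,
      add_zero]

section Good

variable {A K Ω : Type u} [CommRing A] [IsDomain A] [IsDiscreteValuationRing A] [Field K] [Algebra A K]
  [IsFractionRing A K] [Field Ω] [Algebra K Ω]

variable (A K Ω) in
/-- the structure map of `A` in `Ω` -/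
abbrev toΩ : A →+* Ω := (algebraMap K Ω).comp (algebraMap A K)

/-- `x` is, modulo the maximal ideal of `O`, a simple root of a polynomial over `A`. -/
def ResSep (g : A →+* Ω) (O : ValuationSubring Ω) (x : Ω) : Prop :=
  ∃ h : A[X], O.valuation (h.eval₂ g x) < 1 ∧ O.valuation (h.derivative.eval₂ g x) = 1

variable (A K) in
/-- The elements of an unramified extension: separable over `K`, with value a power of that of the uniformizer `π`
of `A`, and with separable residue class. -/
structure Good (O : ValuationSubring Ω) (π : A) (x : Ω) : Prop where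
  sep : IsSeparable K x
  val : x ≠ 0 → ∃ k : ℤ, O.valuation x = O.valuation (toΩ A K Ω π) ^ k
  res : x ∈ O → ResSep (toΩ A K Ω) O x

/-- A subset of `Ω` closed under adjoining simple roots. -/
def SRClosed (O : ValuationSubring Ω) (F : Set Ω) : Prop :=
  ∀ p : Polynomial Ω, p.Monic → (∀ n, p.coeff n ∈ F ∧ p.coeff n ∈ O) → ∀ α, p.eval α = 0 →
    O.valuation (p.derivative.eval α) = 1 → α ∈ F

variable {O : ValuationSubring Ω} {π : A}

theorem good_algebraMap (hO : Dominates A (toΩ A K Ω) O) (hπ : Irreducible π) (x : K) :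
    Good A K O π (algebraMap K Ω x) := by
  refine ⟨isSeparable_algebraMap x, fun hx => ?_, fun hx => ?_⟩
  · have hx0 : x ≠ 0 := fun h0 => hx (by rw [h0, map_zero])
    obtain ⟨n, u, hn⟩ := IsDiscreteValuationRing.exists_units_eq_smul_zpow_of_irreducible hπ (K := K) hx0
    refine ⟨n, ?_⟩
    have h1 : O.valuation (toΩ A K Ω (u : A)) = 1 :=
      RamDVR.valuation_eq_one_of_isUnit hO u.isUnit
    rw [hn, Units.smul_def, Algebra.smul_def, map_mul, map_mul, map_zpow₀, map_zpow₀]
    rw [show O.valuation (algebraMap K Ω (algebraMap A K (u : A))) = 1 from h1, one_mul]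
    rfl
  · have h1 : x ∈ O.comap (algebraMap K Ω) := hx
    rw [(dominates_comp_algebraMap_iff (A := A) (K := K) (algebraMap K Ω)).1 hO] at h1
    obtain ⟨a, rfl⟩ := h1
    refine ⟨X - C a, ?_, ?_⟩
    · rw [eval₂_sub, eval₂_X, eval₂_C]
      simp
    · rw [derivative_sub, derivative_X, derivative_C, sub_zero, eval₂_one, map_one]

theorem isUnif_of_good (hO : Dominates A (toΩ A K Ω) O) (hπ : Irreducible π) {F : Set Ω}
    (hF : ∀ x ∈ F, Good A K O π x) : IsUnif O F (toΩ A K Ω π) := by
  refine ⟨?_, hO.2 π ?_, fun x hx hx0 => (hF x hx).val hx0⟩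
  · intro h0
    apply hπ.ne_zero
    apply IsFractionRing.injective A K
    rw [map_zero]
    exact (map_eq_zero (algebraMap K Ω)).1 h0
  · rw [mem_maximalIdeal, mem_nonunits_iff]
    exact hπ.not_isUnit

/-- a uniformizer of a smaller set stays one when the bigger set is weakly unramified over it -/
theorem isUnif_of_le {S T : Set Ω} {ϖ t : Ω} (hT : IsUnif O T ϖ) (hS : IsUnif O S t) (htT : t ∈ T)
    (h : ∃ a ∈ S, O.valuation a < 1 ∧ O.valuation ϖ ≤ O.valuation a) : IsUnif O T t := by
  obtain ⟨a, haS, ha1, ha⟩ := h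
  have h1 : O.valuation ϖ ≤ O.valuation t := ha.trans (hS.le_of_lt_one haS ha1)
  have h2 : O.valuation t ≤ O.valuation ϖ := hT.le_of_lt_one htT hS.2.1
  refine ⟨hS.1, hS.2.1, fun x hx hx0 => ?_⟩
  obtain ⟨k, hk⟩ := hT.2.2 x hx hx0
  exact ⟨k, by rw [hk, le_antisymm h1 h2]⟩

theorem resSep_iff {A M : Type u} [CommRing A] [IsLocalRing A] [Field M] (f : M →+* Ω)
    (W : ValuationSubring M) (hW : W = O.comap f) [Algebra A W] [IsLocalHom (algebraMap A W)] (g : A →+* Ω)
    (hg : ∀ a, f ((algebraMap A W a : W) : M) = g a) (x : W) :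
    ResSep g O (f x) ↔ IsSeparable (ResidueField A) (residue W x) := by
  subst hW
  rw [isSeparable_residue_iff]
  have key : ∀ h : A[X], f ((aeval x h : O.comap f) : M) = h.eval₂ g (f x) := by
    intro h
    let j : O.comap f →+* Ω := f.comp (algebraMap (O.comap f) M)
    have h1 : j (aeval x h) = h.eval₂ (j.comp (algebraMap A (O.comap f))) (j x) := hom_eval₂ _ _ _ _
    have h2 : j.comp (algebraMap A (O.comap f)) = g := RingHom.ext hg
    rw [h2] at h1
    exact h1
  have hlt : ∀ h : A[X], aeval x h ∈ maximalIdeal (O.comap f) ↔ O.valuation (h.eval₂ g (f x)) < 1 := by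
    intro h
    rw [← key, ← valuation_comap_lt_one_iff]
    exact (O.comap f).valuation_lt_one_iff _
  have heq : ∀ h : A[X], aeval x h ∉ maximalIdeal (O.comap f) ↔ O.valuation (h.eval₂ g (f x)) = 1 := by
    intro h
    rw [hlt, not_lt]
    refine ⟨fun h1 => le_antisymm ?_ h1, fun h1 => h1.ge⟩
    rw [ValuationSubring.valuation_le_one_iff, ← key]
    exact (aeval x h).2
  exact exists_congr fun h => and_congr (hlt h).symm (heq h.derivative).symm

/-- Adjoining a simple root to a field of good elements. -/
theorem good_step (hO : Dominates A (toΩ A K Ω) O) (hπ : Irreducible π) (F : IntermediateField K Ω)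
    (hF : ∀ x ∈ F, Good A K O π x) (p : Polynomial Ω) (hp : p.Monic) (hc : ∀ n, p.coeff n ∈ F ∧ p.coeff n ∈ O)
    (α : Ω) (hα : p.eval α = 0) (hd : O.valuation (p.derivative.eval α) = 1) :
    ∃ M : IntermediateField K Ω, F ≤ M ∧ α ∈ M ∧ (∀ x ∈ M, Good A K O π x) ∧
      ∀ S : Subfield Ω, (∀ x ∈ F, x ∈ S) → α ∈ S → ∀ x ∈ M, x ∈ S := by
  let M := (IntermediateField.adjoin F {α}).restrictScalars K
  let L := IntermediateField.adjoin F {α}
  have hFM : F ≤ M := fun x hx => L.algebraMap_mem ⟨x, hx⟩
  have hαM : α ∈ M := IntermediateField.mem_adjoin_simple_self F α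
  refine ⟨M, hFM, hαM, ?_, ?_⟩
  swap
  · intro S hFS hαS x hx
    have h1 : x ∈ L := hx
    have h2 : L.toSubfield ≤ S := by
      show (IntermediateField.adjoin F {α}).toSubfield ≤ S
      rw [IntermediateField.adjoin_toSubfield, Subfield.closure_le]
      rintro y (⟨z, rfl⟩ | rfl)
      · exact hFS _ z.2
      · exact hαS
    exact h2 h1
  -- the valuation ring downstairs
  let V : ValuationSubring F := O.comap (algebraMap F Ω)
  have hπF : toΩ A K Ω π ∈ F := F.algebraMap_mem _
  have hunif : IsUnif O (F : Set Ω) (toΩ A K Ω π) := isUnif_of_good hO hπ hF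
  have hV : IsDiscreteValuationRing V := (ResTop.isDVR_comap (algebraMap F Ω) ⟨toΩ A K Ω π, hπF⟩ (by
    refine hunif.mono ?_
    rintro _ ⟨x, rfl⟩
    exact x.2)).1
  -- lift the polynomial
  let ι : V →+* Ω := (algebraMap F Ω).comp (algebraMap V F)
  obtain ⟨q, hq, hqdeg, hqm⟩ : ∃ q : V[X], q.map ι = p ∧ q.natDegree = p.natDegree ∧ q.Monic := by
    refine lifts_and_natDegree_eq_and_monic ?_ hp
    rw [lifts_iff_coeff_lifts]
    intro n
    exact ⟨⟨⟨p.coeff n, (hc n).1⟩, (hc n).2⟩, rfl⟩
  have hder : q.derivative.map ι = p.derivative := by rw [← derivative_map, hq]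
  have hroot : (q.map (algebraMap V F)).aeval α = 0 := by
    rw [aeval_def, eval₂_map, ← eval_map, hq, hα]
  have hroot' : (q.map (algebraMap V F)).derivative.aeval α ≠ 0 := by
    rw [derivative_map, aeval_def, eval₂_map, ← eval_map, hder]
    intro h0
    rw [h0, map_zero] at hd
    exact zero_ne_one hd
  have hint : IsIntegral F α := ⟨q.map (algebraMap V F), hqm.map _, hroot⟩
  have hsep : IsSeparable F α := by
    show (minpoly F α).Separable
    rw [separable_iff_derivative_ne_zero (minpoly.irreducible hint)]
    intro h0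
    apply hroot'
    obtain ⟨r, hr⟩ := minpoly.dvd _ _ hroot
    rw [hr, derivative_mul, map_add, map_mul, map_mul, h0, minpoly.aeval, map_zero, zero_mul, zero_mul, add_zero]
  have hfin : FiniteDimensional F L := IntermediateField.adjoin.finiteDimensional hint
  have hsepL : Algebra.IsSeparable F L := (IntermediateField.isSeparable_adjoin_simple_iff_isSeparable _ _).2 hsep
  have hsepF : Algebra.IsSeparable K F := ⟨fun x => by
    have h1 := (hF x x.2).sep
    exact (isSeparable_map_iff F.val F.val.injective).1 h1⟩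
  -- the upper valuation ring
  let iVL : Algebra V L := ((algebraMap F L).comp (algebraMap V F)).toAlgebra
  have tVFL : IsScalarTower V F L := IsScalarTower.of_algebraMap_eq' rfl
  let W : ValuationSubring L := O.comap (algebraMap L Ω)
  have hWdom : Dominates V (algebraMap V L) W := (dominates_comp_subtype_iff (algebraMap F L) V W).2 rfl
  let z : L := ⟨α, IntermediateField.mem_adjoin_simple_self F α⟩
  have key : ∀ r : V[X], algebraMap L Ω (aeval z r) = (r.map ι).eval α := by
    intro r
    rw [eval_map, aeval_def, hom_eval₂]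
    rfl
  have hz : aeval z q = 0 := by
    apply (algebraMap L Ω).injective
    rw [key, hq, hα, map_zero]
  have hadj : Algebra.adjoin F {z} = ⊤ := (IntermediateField.adjoin.powerBasis hint).adjoin_gen_eq_top
  have hd' : 1 ≤ W.valuation (aeval z q.derivative) := by
    by_contra hlt
    rw [not_le, valuation_comap_lt_one_iff, key, hder, hd] at hlt
    exact lt_irrefl _ hlt
  let iVW : Algebra V W := (RingHom.codRestrict (algebraMap V L) W hWdom.1).toAlgebra
  have lVW : IsLocalHom (algebraMap V W) := Dominates.isLocalHom hWdom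
  obtain ⟨hw, hs⟩ := unr_at q hqm z hz hadj W hWdom hd'
  have hWd : IsDiscreteValuationRing W := RamDVR.isDVR_of_dominates (K := F) hWdom
  obtain ⟨ϖ, hϖ⟩ := ResTop.exists_isUnif (algebraMap L Ω) (O := O)
  have hw' := (RamWeak.isWeaklyUnramified_incl_iff W (algebraMap F L)).1 hw
  have hML : (M : Set Ω) = Set.range (algebraMap L Ω) := by
    ext x
    exact ⟨fun hx => ⟨⟨x, hx⟩, rfl⟩, fun ⟨y, hy⟩ => hy ▸ y.2⟩
  have hunifM : IsUnif O (M : Set Ω) (toΩ A K Ω π) := by
    obtain ⟨a, ha1, ha2⟩ := hw' ϖ ((valuation_comap_lt_one_iff O (algebraMap L Ω) ϖ).2 hϖ.2.1)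
    refine isUnif_of_le (by rw [hML]; exact hϖ) hunif (hFM hπF) ⟨(a : Ω), a.2, ?_, ?_⟩
    · exact (valuation_comap_lt_one_iff O (algebraMap L Ω) (algebraMap F L a)).1 ha1
    · exact (valuation_comap_le_iff O (algebraMap L Ω) ϖ (algebraMap F L a)).1 ha2
  -- the residue fields
  let gF : A →+* F := (algebraMap K F).comp (algebraMap A K)
  have hdomF : Dominates A gF V := (dominates_comp_iff gF (algebraMap F Ω) O).1 hO
  let iAV : Algebra A V := (RingHom.codRestrict gF V hdomF.1).toAlgebra
  have lAV : IsLocalHom (algebraMap A V) := Dominates.isLocalHom hdomF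
  let iAW : Algebra A W := ((algebraMap V W).comp (algebraMap A V)).toAlgebra
  have tAVW : IsScalarTower A V W := IsScalarTower.of_algebraMap_eq' rfl
  have lAW : IsLocalHom (algebraMap A W) := RingHom.isLocalHom_comp _ _
  have hs1 : Algebra.IsSeparable (ResidueField A) (ResidueField V) := by
    refine ⟨fun y => ?_⟩
    obtain ⟨v, rfl⟩ := residue_surjective y
    exact (resSep_iff (algebraMap F Ω) V rfl (toΩ A K Ω) (fun _ => rfl) v).1 ((hF _ v.1.2).res v.2)
  have hs2 : Algebra.IsSeparable (ResidueField A) (ResidueField W) :=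
    Algebra.IsSeparable.trans (ResidueField A) (ResidueField V) (ResidueField W)
  intro x hx
  refine ⟨?_, hunifM.2.2 x hx, fun hxO => ?_⟩
  · have h1 : IsSeparable F (⟨x, hx⟩ : L) := Algebra.IsSeparable.isSeparable F _
    have h2 : IsSeparable F (L.val ⟨x, hx⟩) := (isSeparable_map_iff L.val L.val.injective).2 h1
    exact IsSeparable.of_algebra_isSeparable_of_isSeparable K h2
  · exact (resSep_iff (algebraMap L Ω) W rfl (toΩ A K Ω) (fun _ => rfl) ⟨⟨x, hx⟩, hxO⟩).2
      (Algebra.IsSeparable.isSeparable _ _)

/-- A maximal intermediate field all of whose elements satisfy `q`. -/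
theorem exists_maximal {K Ω : Type u} [Field K] [Field Ω] [Algebra K Ω] (q : Ω → Prop)
    (h0 : ∀ x : K, q (algebraMap K Ω x)) :
    ∃ F : IntermediateField K Ω, (∀ x ∈ F, q x) ∧
      ∀ F' : IntermediateField K Ω, F ≤ F' → (∀ x ∈ F', q x) → F' ≤ F := by
  obtain ⟨F, hF⟩ := zorn_le_nonempty₀ {F : IntermediateField K Ω | ∀ x ∈ F, q x} (by
    intro c hc hchain y hy
    have hne : Nonempty c := ⟨⟨y, hy⟩⟩
    have hdir : Directed (· ≤ ·) (fun i : c => (i : IntermediateField K Ω)) :=
      hchain.directedOn.directed_val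
    refine ⟨⨆ i : c, (i : IntermediateField K Ω), ?_, fun z hz => le_iSup (fun i : c =>
      (i : IntermediateField K Ω)) ⟨z, hz⟩⟩
    intro x hx
    have hx' : x ∈ ((⨆ i : c, (i : IntermediateField K Ω) : IntermediateField K Ω) : Set Ω) := hx
    rw [IntermediateField.coe_iSup_of_directed hdir, Set.mem_iUnion] at hx'
    obtain ⟨i, hi⟩ := hx'
    exact hc i.2 x hi) ⊥ (by
    intro x hx
    obtain ⟨y, rfl⟩ := IntermediateField.mem_bot.1 hx
    exact h0 y)
  exact ⟨F, hF.2.prop, fun F' hle hF' => hF.2.le_of_ge hF' hle⟩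

theorem isSepClosed_residueField [IsAlgClosed Ω] {M : Type u} [Field M] (f : M →+* Ω)
    (hF : SRClosed O (Set.range f)) : IsSepClosed (ResidueField (O.comap f)) := by
  refine IsSepClosed.of_exists_root _ fun p hm hirr hsep => ?_
  let W := O.comap f
  obtain ⟨q, hq, hqdeg, hqm⟩ : ∃ q : W[X], q.map (residue W) = p ∧ q.natDegree = p.natDegree ∧ q.Monic := by
    refine lifts_and_natDegree_eq_and_monic ?_ hm
    rw [lifts_iff_coeff_lifts]
    exact fun n => residue_surjective _
  let ι : W →+* Ω := f.comp (algebraMap W M)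
  have hι : ∀ w, ι w ∈ O := fun w => w.2
  have hdeg : (q.map ι).degree ≠ 0 := by
    rw [hqm.degree_map]
    intro h0
    have h1 : q.natDegree = 0 := natDegree_eq_of_degree_eq_some h0
    rw [hqdeg] at h1
    exact hirr.natDegree_pos.ne' h1
  obtain ⟨α, hα⟩ := IsAlgClosed.exists_root (q.map ι) hdeg
  have hα0 : (q.map ι).eval α = 0 := hα
  have hαO : α ∈ O := DVRExt.mem_of_isIntegralElem O ι hι ⟨q, hqm, by rw [← eval_map]; exact hα0⟩
  have key : ∀ r : W[X], residue O (r.eval₂ (inclOfComap O f) ⟨α, hαO⟩) =
      (r.map (residue W)).eval₂ (ResidueField.map (inclOfComap O f)) (residue O ⟨α, hαO⟩) := by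
    intro r
    rw [eval₂_map, hom_eval₂]
    rfl
  have key2 : ∀ r : W[X], ((r.eval₂ (inclOfComap O f) ⟨α, hαO⟩ : O) : Ω) = (r.map ι).eval α := by
    intro r
    have := hom_eval₂ r (inclOfComap O f) (algebraMap O Ω) ⟨α, hαO⟩
    rw [eval_map]
    exact this
  have hd : O.valuation ((q.map ι).derivative.eval α) = 1 := by
    rw [derivative_map, ← key2]
    refine le_antisymm (O.valuation_le_one _) ?_
    rw [← not_lt, ← O.valuation_lt_one_iff, ← residue_eq_zero_iff, key, ← derivative_map, hq]
    obtain ⟨a, b, hab⟩ := hsep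
    intro h0
    have h1 := congrArg (fun r => eval₂ (ResidueField.map (inclOfComap O f)) (residue O ⟨α, hαO⟩) r) hab
    simp only [eval₂_add, eval₂_mul, eval₂_one] at h1
    rw [h0, mul_zero, add_zero, ← hq, ← key] at h1
    have h2 : q.eval₂ (inclOfComap O f) ⟨α, hαO⟩ = 0 := by
      apply Subtype.ext
      rw [key2, hα0]
      rfl
    rw [h2, map_zero, mul_zero] at h1
    exact zero_ne_one h1
  obtain ⟨m, hmα⟩ := hF (q.map ι) (hqm.map _) (fun n => by
    rw [coeff_map]
    exact ⟨⟨_, rfl⟩, hι _⟩) α hα0 hd
  have hmW : m ∈ W := by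
    show f m ∈ O
    rw [hmα]; exact hαO
  refine ⟨residue W ⟨m, hmW⟩, ?_⟩
  have h3 : q.eval ⟨m, hmW⟩ = 0 := by
    apply Subtype.ext
    apply f.injective
    show ι (q.eval ⟨m, hmW⟩) = ι 0
    rw [map_zero, ← eval_map_apply]
    exact (congrArg (fun y => (q.map ι).eval y) hmα).trans hα0
  rw [← hq, eval_map_apply, h3, map_zero]

section package

variable (hO : Dominates A (toΩ A K Ω) O) (hπ : Irreducible π) (F : IntermediateField K Ω)
  (hF : ∀ x ∈ F, Good A K O π x)

include hO hπ hF

theorem isDVR_good : IsDiscreteValuationRing (O.comap (algebraMap F Ω)) :=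
  (ResTop.isDVR_comap (algebraMap F Ω) ⟨toΩ A K Ω π, F.algebraMap_mem _⟩ (by
    refine (isUnif_of_good hO hπ hF).mono ?_
    rintro _ ⟨x, rfl⟩
    exact x.2)).1

/-- Properties of `A → O ∩ F` for a simple root closed field `F` of good elements. -/
theorem package [IsAlgClosed Ω] (hcl : SRClosed O (F : Set Ω)) [Algebra A (O.comap (algebraMap F Ω))]
    (hg : ∀ a, (((algebraMap A (O.comap (algebraMap F Ω)) a : O.comap (algebraMap F Ω)) : F) : Ω) = toΩ A K Ω a)
    [hloc : IsLocalHom (algebraMap A (O.comap (algebraMap F Ω)))] :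
    Function.Injective (algebraMap A (O.comap (algebraMap F Ω))) ∧
    IsWeaklyUnramified A (O.comap (algebraMap F Ω)) ∧
    IsSepClosure (ResidueField A) (ResidueField (O.comap (algebraMap F Ω))) ∧
    (letI := (ResidueField.map (algebraMap A (O.comap (algebraMap F Ω)))).toAlgebra
     IsSepClosure (ResidueField A) (ResidueField (O.comap (algebraMap F Ω)))) := by
  have hunif := isUnif_of_good hO hπ hF
  have hsc : IsSepClosed (ResidueField (O.comap (algebraMap F Ω))) := by
    refine isSepClosed_residueField (algebraMap F Ω) ?_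
    have h1 : Set.range (algebraMap F Ω) = (F : Set Ω) := by
      ext x
      exact ⟨fun ⟨y, hy⟩ => hy ▸ y.2, fun hx => ⟨⟨x, hx⟩, rfl⟩⟩
    rw [h1]
    exact hcl
  have hss : Algebra.IsSeparable (ResidueField A) (ResidueField (O.comap (algebraMap F Ω))) := by
    refine ⟨fun y => ?_⟩
    obtain ⟨v, rfl⟩ := residue_surjective y
    exact (resSep_iff (algebraMap F Ω) (O.comap (algebraMap F Ω)) rfl (toΩ A K Ω) hg v).1 ((hF _ v.1.2).res v.2)
  have hcls : IsSepClosure (ResidueField A) (ResidueField (O.comap (algebraMap F Ω))) := ⟨hsc, hss⟩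
  refine ⟨?_, ?_, hcls, ?_⟩
  · intro a b hab
    have h1 : toΩ A K Ω a = toΩ A K Ω b := by rw [← hg, ← hg, hab]
    exact IsFractionRing.injective A K ((algebraMap K Ω).injective h1)
  · show (maximalIdeal A).map (algebraMap A (O.comap (algebraMap F Ω))) = maximalIdeal _
    apply le_antisymm
    · exact ((local_hom_TFAE (algebraMap A (O.comap (algebraMap F Ω)))).out 0 2 rfl rfl).mp hloc
    · intro x hx
      have hx1 : O.valuation ((x : F) : Ω) < 1 := by
        rw [(O.comap (algebraMap F Ω)).valuation_lt_one_iff, valuation_comap_lt_one_iff] at hx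
        exact hx
      have hx2 := hunif.le_of_lt_one x.1.2 hx1
      have hπ0 : toΩ A K Ω π ≠ 0 := hunif.1
      have hmem : ((x : F) : Ω) / toΩ A K Ω π ∈ O := by
        rw [← ValuationSubring.valuation_le_one_iff, map_div₀]
        exact (div_le_one₀ hunif.pos).2 hx2
      let y : O.comap (algebraMap F Ω) := ⟨⟨((x : F) : Ω) / toΩ A K Ω π,
        div_mem (x : F).2 (F.algebraMap_mem _)⟩, hmem⟩
      have hxy : x = algebraMap A (O.comap (algebraMap F Ω)) π * y := by
        apply Subtype.ext
        apply Subtype.ext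
        show ((x : F) : Ω) = (((algebraMap A (O.comap (algebraMap F Ω)) π : O.comap (algebraMap F Ω)) : F) : Ω) *
          (((x : F) : Ω) / toΩ A K Ω π)
        rw [hg, mul_div_cancel₀ _ hπ0]
      rw [hxy]
      refine Ideal.mul_mem_right _ _ (Ideal.mem_map_of_mem _ ?_)
      rw [mem_maximalIdeal, mem_nonunits_iff]
      exact hπ.not_isUnit
  · have h : (ResidueField.map (algebraMap A (O.comap (algebraMap F Ω)))).toAlgebra =
        (inferInstance : Algebra (ResidueField A) (ResidueField (O.comap (algebraMap F Ω)))) := by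
      apply Algebra.algebra_ext
      intro r
      obtain ⟨a, rfl⟩ := residue_surjective r
      rfl
    rw [h]
    exact hcls

end package

end Good

end K420.EtClosed
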