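import Groth.Agent.Etalg.RamWeak
import Groth.Agent.Etalg.RamDVR
import Groth.Agent.Etalg.ResTop
import Groth.Agent.Etalg.RamAmalgam
import Groth.Agent.Fdesc.SepClosedIn
import Mathlib.RingTheory.DedekindDomain.IntegralClosure
import Mathlib.RingTheory.TensorProduct.Free

/-!
# Gauss bases of unramified extensions and linear disjointness

`A ⊆ B` DVRs with fraction fields `K ⊆ L`; `K₂/K` a finite separable extension such that the valuation subring `V₂` of
`K₂` is the integral closure of `A`, is weakly unramified over `A` and has a separable residue field extension.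

* `exists_basis`: `V₂` is free over `A`, a basis is a basis of `K₂/K`.
* `rli_gauss`: if the residue field of `A` is separably closed in that of `B`, this basis is residually independent over
  `L` in every valued field containing `(L, B)` and `(K₂, V₂)`.
-/

set_option autoImplicit false
universe u

open IsLocalRing EtRam Groth.Agent.Etalg Groth.Agent.Etalg.RamBasic Groth.Agent.Etalg.ResInd TensorProduct
open scoped nonZeroDivisors

namespace K420.Gauss

/-- an `A`-basis of `V₂` which is a `K`-basis of `K₂` -/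
theorem exists_basis {A K K₂ : Type u} [CommRing A] [IsDomain A] [IsDiscreteValuationRing A] [Field K] [Algebra A K]
    [IsFractionRing A K] [Field K₂] [Algebra K K₂] [FiniteDimensional K K₂] [Algebra.IsSeparable K K₂]
    (V₂ : ValuationSubring K₂) (hdom : ∀ a : A, algebraMap K K₂ (algebraMap A K a) ∈ V₂)
    (hint : ∀ x ∈ V₂, ((algebraMap K K₂).comp (algebraMap A K)).IsIntegralElem x) :
    ∃ (ι : Type u) (_ : Fintype ι) (b : Module.Basis ι K K₂), (∀ i, b i ∈ V₂) ∧
      ∀ x ∈ V₂, ∀ i, ∃ a : A, algebraMap A K a = b.repr x i := by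
  let _ : Algebra A K₂ := ((algebraMap K K₂).comp (algebraMap A K)).toAlgebra
  have t : IsScalarTower A K K₂ := IsScalarTower.of_algebraMap_eq' rfl
  let C := integralClosure A K₂
  have htf : Module.IsTorsionFree A K₂ := Module.IsTorsionFree.trans_faithfulSMul A K K₂
  have hfin : Module.Finite A C := IsIntegralClosure.finite A K K₂ C
  have hfree : Module.Free A C := IsIntegralClosure.module_free A K K₂ C
  have hloc : IsLocalization (Algebra.algebraMapSubmonoid C A⁰) K₂ := IsIntegralClosure.isLocalization A K K₂ C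
  let bC := Module.Free.chooseBasis A C
  let bK := bC.localizationLocalization K A⁰ K₂
  refine ⟨Module.Free.ChooseBasisIndex A C, inferInstance, bK, fun i => ?_, fun x hx i => ?_⟩
  · rw [Module.Basis.localizationLocalization_apply]
    exact DVRExt.mem_of_isIntegralElem V₂ ((algebraMap K K₂).comp (algebraMap A K)) hdom (bC i).2
  · have h1 : IsIntegral A x := hint x hx
    refine ⟨bC.repr ⟨x, h1⟩ i, ?_⟩
    have h2 := Module.Basis.localizationLocalization_repr_algebraMap (Rₛ := K) (S := A⁰) (Aₛ := K₂) bC ⟨x, h1⟩ i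
    exact h2.symm

section gauss

variable {A B K L K₂ F : Type u} [CommRing A] [IsDomain A] [IsDiscreteValuationRing A] [CommRing B] [IsDomain B]
  [IsDiscreteValuationRing B] [Algebra A B] [IsLocalHom (algebraMap A B)] [Field K] [Field L] [Algebra A K]
  [IsFractionRing A K] [Algebra B L] [IsFractionRing B L] [Algebra K L] [Field K₂] [Algebra K K₂] [Field F]

/-- the residues of the basis form a basis of the residue field extension -/
theorem exists_residue_basis {π : A} (hπ : π ∈ maximalIdeal A) (V₂ : ValuationSubring K₂)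
    [Algebra A V₂] [IsLocalHom (algebraMap A V₂)]
    (hA2 : ∀ a, ((algebraMap A V₂ a : V₂) : K₂) = algebraMap K K₂ (algebraMap A K a))
    (hw : ∀ x ∈ V₂, V₂.valuation x < 1 → V₂.valuation x ≤ V₂.valuation (algebraMap K K₂ (algebraMap A K π)))
    {ι : Type u} [Fintype ι] (b : Module.Basis ι K K₂) (hb : ∀ i, b i ∈ V₂)
    (hb' : ∀ x ∈ V₂, ∀ i, ∃ a : A, algebraMap A K a = b.repr x i) :
    ∃ c : Module.Basis ι (ResidueField A) (ResidueField V₂), ∀ i, c i = residue V₂ ⟨b i, hb i⟩ := by
  classical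
  let v : ι → ResidueField V₂ := fun i => residue V₂ ⟨b i, hb i⟩
  have hli : LinearIndependent (ResidueField A) v := by
    rw [Fintype.linearIndependent_iff]
    intro g hg i
    have hlift : ∀ i, ∃ a : A, residue A a = g i := fun i => residue_surjective _
    choose a ha using hlift
    -- the element `y`
    let y : V₂ := ∑ i, algebraMap A V₂ (a i) * ⟨b i, hb i⟩
    have hy : residue V₂ y = 0 := by
      rw [← hg, map_sum]
      refine Finset.sum_congr rfl fun i _ => ?_
      rw [map_mul, Algebra.smul_def, ← ha]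
      rfl
    have hyb : ∀ i, b.repr (y : K₂) i = algebraMap A K (a i) := by
      intro i
      have h1 : (y : K₂) = ∑ i, algebraMap A K (a i) • b i := by
        show ((∑ i, algebraMap A V₂ (a i) * ⟨b i, hb i⟩ : V₂) : K₂) = _
        rw [AddSubmonoidClass.coe_finsetSum]
        refine Finset.sum_congr rfl fun i _ => ?_
        show ((algebraMap A V₂ (a i) : V₂) : K₂) * b i = _
        rw [hA2, Algebra.smul_def]
      rw [h1, b.repr_sum_self]
    have hlt : V₂.valuation (y : K₂) < 1 := by
      rw [residue_eq_zero_iff] at hy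
      exact (V₂.valuation_lt_one_iff y).1 hy
    have hle := hw y y.2 hlt
    obtain ⟨z, hz⟩ := (V₂.valuation_le_iff _ _).1 hle
    obtain ⟨d, hd⟩ := hb' z z.2 i
    have h2 : b.repr (y : K₂) i = algebraMap A K π * b.repr (z : K₂) i := by
      rw [← hz, mul_comm, ← Algebra.smul_def, map_smul, Finsupp.smul_apply, smul_eq_mul]
    rw [hyb, ← hd, ← map_mul] at h2
    have h3 : a i = π * d := IsFractionRing.injective A K h2
    rw [← ha, residue_eq_zero_iff, h3]
    exact Ideal.mul_mem_right _ _ hπ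
  have hsp : ⊤ ≤ Submodule.span (ResidueField A) (Set.range v) := by
    intro x _
    obtain ⟨y, rfl⟩ := residue_surjective x
    choose a ha using hb' y y.2
    have h1 : y = ∑ i, algebraMap A V₂ (a i) * ⟨b i, hb i⟩ := by
      apply Subtype.ext
      rw [AddSubmonoidClass.coe_finsetSum, ← b.sum_repr (y : K₂)]
      refine Finset.sum_congr rfl fun i _ => ?_
      show b.repr (y : K₂) i • b i = ((algebraMap A V₂ (a i) : V₂) : K₂) * b i
      rw [hA2, Algebra.smul_def, ha]
    rw [h1, map_sum]
    refine Submodule.sum_mem _ fun i _ => ?_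
    rw [map_mul]
    have h2 : residue V₂ (algebraMap A V₂ (a i)) * residue V₂ ⟨b i, hb i⟩ = residue A (a i) • v i := by
      rw [Algebra.smul_def]
      rfl
    rw [h2]
    exact Submodule.smul_mem _ _ (Submodule.subset_span ⟨i, rfl⟩)
  refine ⟨Module.Basis.mk hli hsp, fun i => ?_⟩
  rw [Module.Basis.mk_apply]

/-- If the residue field of `A` is separably closed in that of `B`, the Gauss basis stays residually independent over
`L` in every valued field containing `L` and `K₂`. -/
theorem rli_gauss {π : A} (hπ : π ∈ maximalIdeal A)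
    (hKL : ∀ a : A, algebraMap K L (algebraMap A K a) = algebraMap B L (algebraMap A B a))
    (V₂ : ValuationSubring K₂) [Algebra A V₂] [IsLocalHom (algebraMap A V₂)]
    (hA2 : ∀ a, ((algebraMap A V₂ a : V₂) : K₂) = algebraMap K K₂ (algebraMap A K a))
    [Algebra.IsSeparable (ResidueField A) (ResidueField V₂)]
    (hw : ∀ x ∈ V₂, V₂.valuation x < 1 → V₂.valuation x ≤ V₂.valuation (algebraMap K K₂ (algebraMap A K π)))
    (H : separableClosure (ResidueField A) (ResidueField B) = ⊥)
    {ι : Type u} [Fintype ι] (b : Module.Basis ι K K₂) (hb : ∀ i, b i ∈ V₂)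
    (hb' : ∀ x ∈ V₂, ∀ i, ∃ a : A, algebraMap A K a = b.repr x i)
    (V : ValuationSubring F) (iL : L →+* F) (iK : K₂ →+* F)
    (hcomp : iL.comp (algebraMap K L) = iK.comp (algebraMap K K₂))
    (hVB : Dominates B (iL.comp (algebraMap B L)) V) (hV2 : V.comap iK = V₂) :
    RLI V (iL.fieldRange : Set F) (fun i => iK (b i)) := by
  classical
  obtain ⟨c, hc⟩ := exists_residue_basis hπ V₂ hA2 hw b hb hb'
  subst hV2
  intro s t ht ht1 hs i hi
  -- lift the coefficients to `B`
  have hd : ∀ i, ∃ d : B, i ∈ s → iL (algebraMap B L d) = t i := by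
    intro i
    by_cases hi : i ∈ s
    · obtain ⟨l, hl⟩ := ht i hi
      have h1 : l ∈ V.comap iL := by
        show iL l ∈ V
        rw [hl]
        exact (ValuationSubring.valuation_le_one_iff _ _).1 (ht1 i hi)
      rw [(dominates_comp_algebraMap_iff (A := B) (K := L) iL).1 hVB] at h1
      obtain ⟨d, hd⟩ := h1
      exact ⟨d, fun _ => by rw [hd, hl]⟩
    · exact ⟨0, fun h => absurd h hi⟩
  choose d hd using hd
  -- the maps
  let jB : B →+* V := (iL.comp (algebraMap B L)).codRestrict V hVB.1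
  have lB : IsLocalHom jB := Dominates.isLocalHom hVB
  let j2 : V.comap iK →+* V := inclOfComap V iK
  have hjj : ∀ a : A, jB (algebraMap A B a) = j2 (algebraMap A (V.comap iK) a) := by
    intro a
    apply Subtype.ext
    show iL (algebraMap B L (algebraMap A B a)) = iK ((algebraMap A (V.comap iK) a : V.comap iK) : K₂)
    rw [hA2, ← hKL]
    exact congrArg (fun g : K →+* F => g (algebraMap A K a)) hcomp
  let κA := ResidueField A
  let κB := ResidueField B
  let κ2 := ResidueField (V.comap iK)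
  let κV := ResidueField V
  let i1 : Algebra κB κV := (ResidueField.map jB).toAlgebra
  let i2 : Algebra κ2 κV := (ResidueField.map j2).toAlgebra
  let i3 : Algebra κA κV := ((algebraMap κB κV).comp (algebraMap κA κB)).toAlgebra
  have t1 : IsScalarTower κA κB κV := IsScalarTower.of_algebraMap_eq' rfl
  have t2 : IsScalarTower κA κ2 κV := by
    refine IsScalarTower.of_algebraMap_eq fun x => ?_
    obtain ⟨a, rfl⟩ := residue_surjective x
    exact congrArg (residue V) (hjj a)
  let μ : κB ⊗[κA] κ2 →ₐ[κB] κV :=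
    Algebra.TensorProduct.lift (Algebra.ofId κB κV) (IsScalarTower.toAlgHom κA κ2 κV) (fun _ _ => Commute.all _ _)
  have hμ : Function.Injective μ := by
    have hF : IsField (κB ⊗[κA] κ2) := Groth.Agent.Fdesc.SepClosedIn.isField_tensorProduct H
    rw [injective_iff_map_eq_zero]
    intro x hx
    by_contra hx0
    obtain ⟨y, hy⟩ := hF.mul_inv_cancel hx0
    have h1 := congrArg μ hy
    rw [map_mul, hx, zero_mul, map_one] at h1
    exact zero_ne_one h1
  let e := Algebra.TensorProduct.basis κB c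
  have he : ∀ i, μ (e i) = residue V (j2 ⟨b i, hb i⟩) := by
    intro i
    rw [Algebra.TensorProduct.basis_apply, Algebra.TensorProduct.lift_tmul, map_one, one_mul, hc]
    rfl
  have hsum : ∑ i ∈ s, (residue B (d i)) • e i = 0 := by
    apply hμ
    rw [map_zero, map_sum]
    have h1 : residue V (∑ i ∈ s, jB (d i) * j2 ⟨b i, hb i⟩) = 0 := by
      rw [residue_eq_zero_iff, V.valuation_lt_one_iff]
      refine lt_of_eq_of_lt (congrArg V.valuation ?_) hs
      rw [AddSubmonoidClass.coe_finsetSum]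
      refine Finset.sum_congr rfl fun i hi => ?_
      show iL (algebraMap B L (d i)) * iK (b i) = _
      rw [hd i hi]
    rw [← h1, map_sum]
    refine Finset.sum_congr rfl fun i _ => ?_
    rw [map_smul, he, map_mul, Algebra.smul_def]
    rfl
  have h0 := linearIndependent_iff'.1 e.linearIndependent s _ hsum i hi
  rw [residue_eq_zero_iff] at h0
  rw [← hd i hi]
  exact hVB.2 _ h0

section common

variable {ι : Type u} [Fintype ι] (b : Module.Basis ι K K₂)

/-- the map `L ⊗ K₂ → F` -/
noncomputable def toF (iL : L →+* F) (iK : K₂ →+* F)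
    (hcomp : iL.comp (algebraMap K L) = iK.comp (algebraMap K K₂)) : L ⊗[K] K₂ →+* F :=
  letI : Algebra L F := iL.toAlgebra
  letI : Algebra K F := (iL.comp (algebraMap K L)).toAlgebra
  haveI : IsScalarTower K L F := IsScalarTower.of_algebraMap_eq' rfl
  (Algebra.TensorProduct.lift (Algebra.ofId L F)
    ({ iK with commutes' := fun x => (congrArg (fun g : K →+* F => g x) hcomp).symm } : K₂ →ₐ[K] F)
    (fun _ _ => Commute.all _ _)).toRingHom

omit [Fintype ι] in
theorem toF_tmul (iL : L →+* F) (iK : K₂ →+* F)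
    (hcomp : iL.comp (algebraMap K L) = iK.comp (algebraMap K K₂)) (l : L) (k : K₂) :
    toF iL iK hcomp (l ⊗ₜ k) = iL l * iK k := rfl

theorem toF_eq_sum (iL : L →+* F) (iK : K₂ →+* F)
    (hcomp : iL.comp (algebraMap K L) = iK.comp (algebraMap K K₂)) (x : L ⊗[K] K₂) :
    toF iL iK hcomp x = ∑ i, iL ((Algebra.TensorProduct.basis L b).repr x i) * iK (b i) := by
  conv_lhs => rw [← (Algebra.TensorProduct.basis L b).sum_repr x]
  rw [map_sum]
  refine Finset.sum_congr rfl fun i _ => ?_
  rw [Algebra.TensorProduct.basis_apply, smul_tmul', smul_eq_mul, mul_one, toF_tmul]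

/-- the criterion for `x ∈ L ⊗ K₂` to be mapped into the valuation ring -/
theorem toF_mem_iff (iL : L →+* F) (iK : K₂ →+* F)
    (hcomp : iL.comp (algebraMap K L) = iK.comp (algebraMap K K₂)) (V : ValuationSubring F)
    (hVB : Dominates B (iL.comp (algebraMap B L)) V) (hb : ∀ i, iK (b i) ∈ V)
    (hrli : RLI V (iL.fieldRange : Set F) (fun i => iK (b i))) (x : L ⊗[K] K₂) :
    (toF iL iK hcomp x ∈ V ↔ ∀ i, (Algebra.TensorProduct.basis L b).repr x i ∈ vsub B L) ∧
    (toF iL iK hcomp x = 0 → x = 0) := by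
  have hle : ∀ i, V.valuation (iL ((Algebra.TensorProduct.basis L b).repr x i)) ≤
      V.valuation (toF iL iK hcomp x) := by
    intro i
    rw [toF_eq_sum b]
    exact RLI.le_sum (F := iL.fieldRange) hrli Finset.univ
      (fun i => iL ((Algebra.TensorProduct.basis L b).repr x i)) (fun j _ => ⟨_, rfl⟩) i (Finset.mem_univ i)
  have hcom : V.comap iL = vsub B L := (dominates_comp_algebraMap_iff (A := B) (K := L) iL).1 hVB
  refine ⟨⟨fun hx i => ?_, fun h => ?_⟩, fun h0 => ?_⟩
  · rw [← hcom]
    show iL _ ∈ V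
    rw [← ValuationSubring.valuation_le_one_iff]
    exact (hle i).trans ((ValuationSubring.valuation_le_one_iff _ _).2 hx)
  · rw [toF_eq_sum b]
    refine sum_mem fun i _ => mul_mem ?_ (hb i)
    have h1 := h i
    rw [← hcom] at h1
    exact h1
  · apply (Algebra.TensorProduct.basis L b).repr.injective
    rw [map_zero]
    ext i
    have h1 := hle i
    rw [h0, map_zero, le_zero_iff, map_eq_zero, map_eq_zero] at h1
    exact h1

/-- Two valued fields containing `(L, B)` and `K₂`, in which the basis `b` of `K₂/K` is residually independent over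
`L`, have a common extension in which the copies of `L` and those of `K₂` agree. -/
theorem exists_common [FiniteDimensional K K₂] {F₁ F₂ : Type u} [Field F₁] [Field F₂]
    (V₁ : ValuationSubring F₁) (iL₁ : L →+* F₁) (iK₁ : K₂ →+* F₁)
    (hc₁ : iL₁.comp (algebraMap K L) = iK₁.comp (algebraMap K K₂))
    (hB₁ : Dominates B (iL₁.comp (algebraMap B L)) V₁) (hb₁ : ∀ i, iK₁ (b i) ∈ V₁)
    (hr₁ : RLI V₁ (iL₁.fieldRange : Set F₁) (fun i => iK₁ (b i)))
    (V₂ : ValuationSubring F₂) (iL₂ : L →+* F₂) (iK₂ : K₂ →+* F₂)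
    (hc₂ : iL₂.comp (algebraMap K L) = iK₂.comp (algebraMap K K₂))
    (hB₂ : Dominates B (iL₂.comp (algebraMap B L)) V₂) (hb₂ : ∀ i, iK₂ (b i) ∈ V₂)
    (hr₂ : RLI V₂ (iL₂.fieldRange : Set F₂) (fun i => iK₂ (b i))) :
    ∃ (Ω : Type u) (_ : Field Ω) (f₁ : F₁ →+* Ω) (f₂ : F₂ →+* Ω) (W : ValuationSubring Ω),
      W.comap f₁ = V₁ ∧ W.comap f₂ = V₂ ∧ (∀ l, f₁ (iL₁ l) = f₂ (iL₂ l)) ∧ ∀ k, f₁ (iK₁ k) = f₂ (iK₂ k) := by
  classical
  let T₁ := toF iL₁ iK₁ hc₁
  let T₂ := toF iL₂ iK₂ hc₂
  have m₁ := fun x => toF_mem_iff b iL₁ iK₁ hc₁ V₁ hB₁ hb₁ hr₁ x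
  have m₂ := fun x => toF_mem_iff b iL₂ iK₂ hc₂ V₂ hB₂ hb₂ hr₂ x
  have hinj : Function.Injective T₂ := (injective_iff_map_eq_zero T₂).2 fun x hx => (m₂ x).2 hx
  let _ : Algebra L F₂ := iL₂.toAlgebra
  let _ : Algebra K F₂ := (iL₂.comp (algebraMap K L)).toAlgebra
  have tt : IsScalarTower K L F₂ := IsScalarTower.of_algebraMap_eq' rfl
  let X : IntermediateField L F₂ := IntermediateField.adjoin L (Set.range iK₂)
  have hTl : ∀ l : L, T₂ (l ⊗ₜ (1 : K₂)) = algebraMap L F₂ l := fun l => by
    show toF iL₂ iK₂ hc₂ _ = _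
    rw [toF_tmul, map_one, mul_one]
    rfl
  have hTk : ∀ k : K₂, T₂ ((1 : L) ⊗ₜ k) = iK₂ k := fun k => by
    show toF iL₂ iK₂ hc₂ _ = _
    rw [toF_tmul, map_one, one_mul]
  have hr : ∀ x : F₂, x ∈ X → ∃ r, T₂ r = x := by
    intro x hx
    have halg : ∀ y ∈ Set.range iK₂, IsAlgebraic L y := by
      rintro _ ⟨k, rfl⟩
      have h1 : IsIntegral K k := Algebra.IsIntegral.isIntegral k
      let iK₂' : K₂ →ₐ[K] F₂ := { iK₂ with
        commutes' := fun x => (congrArg (fun g : K →+* F₂ => g x) hc₂).symm }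
      have h2 : IsIntegral K (iK₂ k) := h1.map iK₂'
      exact (h2.tower_top (A := L)).isAlgebraic
    have hx' : x ∈ X.toSubalgebra := hx
    rw [IntermediateField.adjoin_toSubalgebra_of_isAlgebraic halg] at hx'
    let S : Subalgebra L F₂ := { T₂.range with
      algebraMap_mem' := fun l => ⟨_, hTl l⟩ }
    have hS : Algebra.adjoin L (Set.range iK₂) ≤ S := Algebra.adjoin_le (by
      rintro _ ⟨k, rfl⟩
      exact ⟨_, hTk k⟩)
    exact hS hx'
  choose r hr using hr
  let rr : X →+* L ⊗[K] K₂ :=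
    { toFun := fun x => r x x.2
      map_one' := hinj (by rw [hr, map_one]; rfl)
      map_mul' := fun x y => hinj (by rw [hr, map_mul, hr, hr]; rfl)
      map_zero' := hinj (by rw [hr, map_zero]; rfl)
      map_add' := fun x y => hinj (by rw [hr, map_add, hr, hr]; rfl) }
  have hrr : ∀ x : X, T₂ (rr x) = x := fun x => hr x x.2
  let _ : Algebra X F₁ := (T₁.comp rr).toAlgebra
  obtain ⟨Ω, _, f₁, f₂, W, hf, hW₁, hW₂, -⟩ := RamAmalgam.exists_amalgam (F := X) V₁ V₂ (by
    ext x
    show T₁ (rr x) ∈ V₁ ↔ (x : F₂) ∈ V₂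
    rw [← hrr x]
    exact (m₁ _).1.trans (m₂ _).1.symm)
  have hagree : ∀ x : X, f₁ (T₁ (rr x)) = f₂ (x : F₂) := fun x => congrArg (fun g : X →+* Ω => g x) hf
  refine ⟨Ω, inferInstance, f₁, f₂, W, hW₁, hW₂, fun l => ?_, fun k => ?_⟩
  · have h1 : rr (algebraMap L X l) = l ⊗ₜ (1 : K₂) := hinj (by rw [hrr, hTl]; rfl)
    have h2 := hagree (algebraMap L X l)
    rw [h1, show T₁ (l ⊗ₜ (1 : K₂)) = iL₁ l from by
      show toF iL₁ iK₁ hc₁ _ = _
      rw [toF_tmul, map_one, mul_one]] at h2
    exact h2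
  · have hk : iK₂ k ∈ X := IntermediateField.subset_adjoin _ _ ⟨k, rfl⟩
    have h1 : rr ⟨iK₂ k, hk⟩ = (1 : L) ⊗ₜ k := hinj (by rw [hrr, hTk])
    have h2 := hagree ⟨iK₂ k, hk⟩
    rw [h1, show T₁ ((1 : L) ⊗ₜ k) = iK₁ k from by
      show toF iL₁ iK₁ hc₁ _ = _
      rw [toF_tmul, map_one, one_mul]] at h2
    exact h2

end common

end gauss

end K420.Gauss
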