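import Groth.Agent.Etalg.RamWeak
import Groth.Agent.Etalg.SolFinal
import Groth.Agent.Etalg.H122.SepFinal
import Groth.Agent.Etalg.SepSol3
import Groth.Agent.EtAlg.K362.SolUp
import Groth.Agent.VarietyA.GeomRedAlg
import Groth.Agent.S1983

/-!
# Squares of extensions of discrete valuation rings which reflect solutions

`A ⊆ A'`, `B ⊆ B'`, `A ⊆ B`, `A' ⊆ B'` a square of extensions of DVRs with `A ⊆ A'` weakly unramified with separable
residue field extension and `K'/K` algebraic.  If `A' ⊆ B'` has a (separable) solution, so has `A ⊆ B`; if it has a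
weak solution which is generated over `K'` by a normal extension of `K`, then `A ⊆ B` has a weak solution.
-/

set_option autoImplicit false
universe u

open IsLocalRing EtRam Groth.Agent.Etalg Groth.Agent.Etalg.RamBasic Groth.Agent.Etalg.ResInd TensorProduct
  IntermediateField

namespace K420.ReflectSol

/-- Geometric reducedness is transitive for field extensions. -/
theorem geomReduced_trans (k k' F : Type u) [Field k] [Field k'] [Field F] [Algebra k k'] [Algebra k' F]
    [Algebra k F] [IsScalarTower k k' F] [Algebra.IsGeometricallyReduced k k']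
    [Algebra.IsGeometricallyReduced k' F] : Algebra.IsGeometricallyReduced k F := by
  rw [Algebra.isGeometricallyReduced_field_iff]
  have h1 : IsReduced (AlgebraicClosure k ⊗[k] k') := (Algebra.isGeometricallyReduced_field_iff k k').1 ‹_›
  have h2 : IsReduced (k' ⊗[k] AlgebraicClosure k) :=
    isReduced_of_injective (Algebra.TensorProduct.comm k k' (AlgebraicClosure k)) (AlgEquiv.injective _)
  have h3 : IsReduced ((k' ⊗[k] AlgebraicClosure k) ⊗[k'] F) :=
    Groth.Agent.VarietyA.GeomRedAlg.isReduced_tensorProduct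
  have h4 : IsReduced (F ⊗[k'] (k' ⊗[k] AlgebraicClosure k)) :=
    isReduced_of_injective (Algebra.TensorProduct.comm k' F (k' ⊗[k] AlgebraicClosure k)) (AlgEquiv.injective _)
  have h5 : IsReduced (F ⊗[k] AlgebraicClosure k) :=
    isReduced_of_injective (Algebra.TensorProduct.cancelBaseChange k k' k' F (AlgebraicClosure k)).symm
      (AlgEquiv.injective _)
  exact isReduced_of_injective (Algebra.TensorProduct.comm k (AlgebraicClosure k) F) (AlgEquiv.injective _)

section

variable {K₁ M Ω : Type u} [Field K₁] [Field M] [Field Ω]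

/-- `W ∩ K₁ → W` is weakly unramified -/
def WU (W : ValuationSubring M) (f : K₁ →+* M) : Prop :=
  letI : Algebra (W.comap f) W := (inclOfComap W f).toAlgebra
  IsWeaklyUnramified (W.comap f) W

/-- `W ∩ K₁ → W` has a geometrically reduced residue field extension -/
def GR (W : ValuationSubring M) (f : K₁ →+* M) : Prop :=
  @Algebra.IsGeometricallyReduced (ResidueField (W.comap f)) (ResidueField W) _ _
    (ResidueField.map (inclOfComap W f)).toAlgebra

theorem GR.comp {W : ValuationSubring Ω} {f : K₁ →+* M} {g : M →+* Ω} (h₁ : GR (W.comap g) f) (h₂ : GR W g) :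
    GR W (g.comp f) := by
  unfold GR at h₁ h₂ ⊢
  let i1 : Algebra (ResidueField (W.comap (g.comp f))) (ResidueField (W.comap g)) :=
    (ResidueField.map (inclOfComap (W.comap g) f)).toAlgebra
  let i2 : Algebra (ResidueField (W.comap g)) (ResidueField W) := (ResidueField.map (inclOfComap W g)).toAlgebra
  let i3 : Algebra (ResidueField (W.comap (g.comp f))) (ResidueField W) :=
    (ResidueField.map (inclOfComap W (g.comp f))).toAlgebra
  have t : IsScalarTower (ResidueField (W.comap (g.comp f))) (ResidueField (W.comap g)) (ResidueField W) := by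
    refine IsScalarTower.of_algebraMap_eq fun x => ?_
    obtain ⟨x, rfl⟩ := residue_surjective x
    rfl
  have h₁' : Algebra.IsGeometricallyReduced (ResidueField (W.comap (g.comp f))) (ResidueField (W.comap g)) := h₁
  have h₂' : Algebra.IsGeometricallyReduced (ResidueField (W.comap g)) (ResidueField W) := h₂
  exact geomReduced_trans _ (ResidueField (W.comap g)) _

end

section core

variable {A K A' K' B' L L' Ω K₁ : Type u}
  [CommRing A] [IsDomain A] [IsDiscreteValuationRing A] [Field K] [Algebra A K] [IsFractionRing A K]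
  [CommRing A'] [IsDomain A'] [IsDiscreteValuationRing A'] [Field K'] [Algebra A' K'] [IsFractionRing A' K']
  [CommRing B'] [IsDomain B'] [IsDiscreteValuationRing B'] [Field L'] [Algebra B' L'] [IsFractionRing B' L']
  [Algebra A A'] [IsLocalHom (algebraMap A A')] [Algebra K K'] [Algebra A K'] [IsScalarTower A K K']
  [IsScalarTower A A' K']
  [Algebra A' B'] [IsLocalHom (algebraMap A' B')] [Algebra K' L'] [Algebra A' L'] [IsScalarTower A' K' L']
  [IsScalarTower A' B' L']
  [Field L] [Algebra K L] [Algebra L L']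
  [Field Ω] [Algebra L' Ω] [Algebra K' Ω] [Algebra L Ω] [Algebra K Ω] [IsScalarTower K' L' Ω]
  [IsScalarTower L L' Ω] [IsScalarTower K K' Ω] [IsScalarTower K L Ω]
  [Field K₁] [Algebra K' K₁] [FiniteDimensional K' K₁]

/-- The descent step.  `E` is a finite extension of `K` inside `K₁ ⊆ Ω` with `K₁ = K' E`, and `M₀ = L E`. -/
theorem core (hinj : Function.Injective (algebraMap A A')) (hw : IsWeaklyUnramified A A')
    [Algebra.IsGeometricallyReduced (ResidueField A) (ResidueField A')]
    (O : ValuationSubring Ω) (hO : Dominates B' ((algebraMap L' Ω).comp (algebraMap B' L')) O)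
    (φ : K₁ →ₐ[K'] Ω) (E : IntermediateField K Ω) [FiniteDimensional K E] (hE : ∀ x ∈ E, ∃ y, φ y = x)
    (T : Set K₁) (hT : Algebra.adjoin K' T = ⊤) (hTE : ∀ t ∈ T, φ t ∈ E)
    (M₀ : IntermediateField K Ω) (hM₀ : M₀ = (IsScalarTower.toAlgHom K L Ω).fieldRange ⊔ E)
    (f₀ : E →+* M₀) (hf₀ : ∀ x : E, ((f₀ x : M₀) : Ω) = x) :
    (IsWeakSolution B' K' L' K₁ →
      WU (O.comap (algebraMap M₀ Ω)) f₀ ∧ ∃ π ∈ E, IsUnif O (M₀ : Set Ω) π) ∧
    (IsSolution B' K' L' K₁ → GR (O.comap (algebraMap M₀ Ω)) f₀) := by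
  -- the algebra structures on `K₁`
  let iK1 : Algebra K K₁ := ((algebraMap K' K₁).comp (algebraMap K K')).toAlgebra
  have tK1 : IsScalarTower K K' K₁ := IsScalarTower.of_algebraMap_eq' rfl
  have hφi : Function.Injective φ := (φ : K₁ →+* Ω).injective
  choose j hj using hE
  let e : E →+* K₁ :=
    { toFun := fun x => j x x.2
      map_one' := hφi (by rw [hj, map_one]; rfl)
      map_mul' := fun x y => hφi (by rw [hj, map_mul, hj, hj]; rfl)
      map_zero' := hφi (by rw [hj, map_zero]; rfl)
      map_add' := fun x y => hφi (by rw [hj, map_add, hj, hj]; rfl) }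
  have he : ∀ x, φ (e x) = x := fun x => hj x x.2
  let iE1 : Algebra E K₁ := e.toAlgebra
  have tE1 : IsScalarTower K E K₁ := IsScalarTower.of_algebraMap_eq fun x => hφi (by
    show φ (algebraMap K K₁ x) = φ (e (algebraMap K E x))
    rw [he, IsScalarTower.algebraMap_apply K K' K₁, φ.commutes, ← IsScalarTower.algebraMap_apply K K' Ω]
    rfl)
  have hadjE : Algebra.adjoin K' (Set.range (algebraMap E K₁)) = ⊤ := by
    rw [eq_top_iff, ← hT]
    refine Algebra.adjoin_mono fun t ht => ⟨⟨φ t, hTE t ht⟩, hφi ?_⟩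
    show φ (e _) = _
    rw [he]
  -- the compositum with `L'`
  let iΩ : Algebra K₁ Ω := φ.toRingHom.toAlgebra
  have tΩ : IsScalarTower K' K₁ Ω := IsScalarTower.of_algebraMap_eq fun x => (φ.commutes x).symm
  let M' : IntermediateField L' Ω := adjoin L' (Set.range (algebraMap K₁ Ω))
  let f : K₁ →+* M' := (algebraMap K₁ Ω).codRestrict M' (fun x => subset_adjoin _ _ ⟨x, rfl⟩)
  have hf : ∀ x, ((f x : M') : Ω) = φ x := fun x => rfl
  let i1 : Algebra K₁ M' := f.toAlgebra
  have hadj' : Algebra.adjoin L' (Set.range (algebraMap K₁ M')) = ⊤ :=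
    K362.SolUp.adjoin_stage (K := K') f (fun x => rfl)
  have hfin' : FiniteDimensional L' M' := K362.SolUp.finite_stage (K := K')
  have t1 : IsScalarTower K' K₁ M' := IsScalarTower.of_algebraMap_eq fun x => Subtype.ext (by
    show algebraMap K' Ω x = φ (algebraMap K' K₁ x)
    rw [φ.commutes])
  let W : ValuationSubring M' := O.comap (algebraMap M' Ω)
  have hW : Dominates B' ((algebraMap L' M').comp (algebraMap B' L')) W := by
    rw [← dominates_comp_iff]
    exact hO
  -- from `K₁` to `M'`
  have hWU2 : IsWeakSolution B' K' L' K₁ → WU W f := fun h => h M' hadj' W hW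
  have hGR2 : IsSolution B' K' L' K₁ → GR W f := fun h => (h M' hadj' W hW).2
  -- from `E` to `K₁`
  have hsolE : IsSolution A' K K' E := Groth.Agent.S1983.result A A' K K' hinj hw E
  have hdomA' : Dominates A' ((algebraMap K' K₁).comp (algebraMap A' K')) (W.comap f) := by
    have h1 : (algebraMap M' Ω).comp (f.comp ((algebraMap K' K₁).comp (algebraMap A' K'))) =
        ((algebraMap L' Ω).comp (algebraMap B' L')).comp (algebraMap A' B') := by
      ext x
      show φ (algebraMap K' K₁ (algebraMap A' K' x)) = algebraMap L' Ω (algebraMap B' L' (algebraMap A' B' x))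
      rw [φ.commutes, ← IsScalarTower.algebraMap_apply A' B' L', IsScalarTower.algebraMap_apply A' K' L',
        ← IsScalarTower.algebraMap_apply K' L' Ω]
    rw [← dominates_comp_iff, ← dominates_comp_iff, h1]
    refine ⟨fun a => hO.1 _, fun a ha => hO.2 _ ?_⟩
    exact (((local_hom_TFAE (algebraMap A' B')).out 0 2 rfl rfl).mp ‹_›) (Ideal.mem_map_of_mem _ ha)
  have h1 := hsolE K₁ hadjE (W.comap f) hdomA'
  have hWU1 : WU (W.comap f) e := h1.1
  have hGR1 : GR (W.comap f) e := h1.2
  -- `L E` inside `M'`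
  have hM₀M' : ∀ x ∈ M₀, x ∈ M' := by
    let P : IntermediateField K Ω :=
      { carrier := M'
        mul_mem' := fun ha hb => M'.mul_mem ha hb
        add_mem' := fun ha hb => M'.add_mem ha hb
        algebraMap_mem' := fun c => by
          rw [IsScalarTower.algebraMap_apply K L Ω, IsScalarTower.algebraMap_apply L L' Ω]
          exact M'.algebraMap_mem _
        inv_mem' := fun _ ha => M'.inv_mem ha }
    have hP : M₀ ≤ P := by
      rw [hM₀]
      refine sup_le ?_ ?_
      · rintro _ ⟨l, rfl⟩
        show algebraMap L Ω l ∈ M'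
        rw [IsScalarTower.algebraMap_apply L L' Ω]
        exact M'.algebraMap_mem _
      · intro x hx
        show x ∈ M'
        have h2 := he ⟨x, hx⟩
        rw [← show φ (e ⟨x, hx⟩) = x from h2]
        exact (f (e ⟨x, hx⟩)).2
    exact fun x hx => hP hx
  let g : M₀ →+* M' := (algebraMap M₀ Ω).codRestrict M' (fun x => hM₀M' x x.2)
  have hgf : f.comp e = g.comp f₀ := by
    ext x
    show φ (e x) = ((f₀ x : M₀) : Ω)
    rw [he, hf₀]
  have hWg : W.comap g = O.comap (algebraMap M₀ Ω) := rfl
  refine ⟨fun hsol => ?_, fun hsol => ?_⟩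
  · have h2 : WU W (f.comp e) := RamWeak.isWeaklyUnramified_comp W e f hWU1 (hWU2 hsol)
    have h3 : WU W (g.comp f₀) := hgf ▸ h2
    refine ⟨RamWeak.isWeaklyUnramified_of_comp W f₀ g h3, ?_⟩
    have dW : IsDiscreteValuationRing W := RamDVR.isDVR_of_dominates hW
    obtain ⟨ϖ, hϖ⟩ := ResTop.exists_isUnif (algebraMap M' Ω) (O := O)
    obtain ⟨a, ha1, ha2⟩ := (RamWeak.isWeaklyUnramified_incl_iff W (f.comp e)).1 h2 ϖ
      ((valuation_comap_lt_one_iff O (algebraMap M' Ω) ϖ).2 hϖ.2.1)
    have ha : ((f (e a) : M') : Ω) = a := he a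
    have ha1' : O.valuation (a : Ω) < 1 := by
      rw [← ha]; exact (valuation_comap_lt_one_iff O (algebraMap M' Ω) (f (e a))).1 ha1
    have ha2' : O.valuation (algebraMap M' Ω ϖ) ≤ O.valuation (a : Ω) := by
      rw [← ha]; exact (valuation_comap_le_iff O (algebraMap M' Ω) ϖ (f (e a))).1 ha2
    have haM : (a : Ω) ∈ Set.range (algebraMap M' Ω) := ⟨f (e a), ha⟩
    have ha3 : O.valuation (a : Ω) = O.valuation (algebraMap M' Ω ϖ) :=
      le_antisymm (hϖ.le_of_lt_one haM ha1') ha2'
    refine ⟨a, a.2, ?_, ha1', fun x hx hx0 => ?_⟩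
    · intro h0
      rw [h0, map_zero] at ha3
      exact hϖ.pos.ne ha3
    · obtain ⟨k, hk⟩ := hϖ.2.2 x ⟨⟨x, hM₀M' x hx⟩, rfl⟩ hx0
      exact ⟨k, by rw [hk, ha3]⟩
  · have h2 : GR W (f.comp e) := GR.comp hGR1 (hGR2 hsol)
    have h3 : GR W (g.comp f₀) := hgf ▸ h2
    exact RamWeak.isGeometricallyReduced_of_comp W f₀ g h3

/-- generators of `K₁` over `K'` -/
theorem exists_generators : ∃ T : Finset K₁, Algebra.adjoin K' (T : Set K₁) = ⊤ := by
  obtain ⟨T, hT⟩ := (Module.Finite.fg_top : (⊤ : Submodule K' K₁).FG)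
  refine ⟨T, ?_⟩
  rw [eq_top_iff]
  intro x _
  have hx : x ∈ Submodule.span K' (T : Set K₁) := by rw [hT]; trivial
  exact Algebra.span_le_adjoin K' (T : Set K₁) hx

/-- If `A ⊆ A'` is weakly unramified with separable residue field extension and `K'/K` is algebraic, then `A ⊆ B` has
a solution as soon as `A' ⊆ B'` has one; a separable one if `K'/K` and the given solution are separable. -/
theorem exists_solution [IsAlgClosed Ω] {B : Type u} [CommRing B] [IsDomain B] [IsDiscreteValuationRing B]
    [Algebra B L] [IsFractionRing B L] [Algebra.IsAlgebraic K K']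
    (hinj : Function.Injective (algebraMap A A')) (hw : IsWeaklyUnramified A A')
    [Algebra.IsGeometricallyReduced (ResidueField A) (ResidueField A')]
    (O : ValuationSubring Ω) (hO : Dominates B' ((algebraMap L' Ω).comp (algebraMap B' L')) O)
    (hOB : Dominates B ((algebraMap L Ω).comp (algebraMap B L)) O)
    (h : IsSolution B' K' L' K₁) :
    (∃ (K₂ : Type u) (_ : Field K₂) (_ : Algebra K K₂), FiniteDimensional K K₂ ∧ IsSolution B K L K₂) ∧
    (Algebra.IsSeparable K K' → Algebra.IsSeparable K' K₁ →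
      ∃ (K₂ : Type u) (_ : Field K₂) (_ : Algebra K K₂), FiniteDimensional K K₂ ∧ Algebra.IsSeparable K K₂ ∧
        IsSolution B K L K₂) := by
  classical
  obtain ⟨T, hT⟩ := exists_generators (K' := K') (K₁ := K₁)
  let φ : K₁ →ₐ[K'] Ω := IsAlgClosed.lift
  let E : IntermediateField K Ω := adjoin K (φ '' (T : Set K₁))
  have hfin : FiniteDimensional K E := by
    have : Finite (φ '' (T : Set K₁)) := (T.finite_toSet.image φ).to_subtype
    refine finiteDimensional_adjoin ?_
    rintro _ ⟨t, -, rfl⟩
    have h1 : IsIntegral K' (φ t) := (Algebra.IsIntegral.isIntegral (R := K') t).map φ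
    exact isIntegral_trans (R := K) (A := K') _ h1
  have hE : ∀ x ∈ E, ∃ y, φ y = x := by
    let P : IntermediateField K Ω :=
      { carrier := Set.range φ
        mul_mem' := by rintro _ _ ⟨a, rfl⟩ ⟨b, rfl⟩; exact ⟨a * b, map_mul _ _ _⟩
        add_mem' := by rintro _ _ ⟨a, rfl⟩ ⟨b, rfl⟩; exact ⟨a + b, map_add _ _ _⟩
        algebraMap_mem' := fun c => ⟨algebraMap K' K₁ (algebraMap K K' c), by
          rw [φ.commutes, ← IsScalarTower.algebraMap_apply K K' Ω]⟩
        inv_mem' := by rintro _ ⟨a, rfl⟩; exact ⟨a⁻¹, map_inv₀ _ _⟩ }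
    have hP : E ≤ P := adjoin_le_iff.2 (by rintro _ ⟨t, -, rfl⟩; exact ⟨t, rfl⟩)
    exact fun x hx => hP hx
  let M₀ : IntermediateField K Ω := (IsScalarTower.toAlgHom K L Ω).fieldRange ⊔ E
  let f₀ : E →+* M₀ := (inclusion (le_sup_right : E ≤ M₀)).toRingHom
  obtain ⟨c1, c2⟩ := core (L := L) hinj hw O hO φ E hE T hT (fun t ht => subset_adjoin _ _ ⟨t, ht, rfl⟩) M₀ rfl f₀
    (fun _ => rfl)
  obtain ⟨-, π, hπE, hπ⟩ := c1 (fun M _ _ _ _ _ _ ha W hW => (h M ha W hW).1)
  refine ⟨?_, fun hs1 hs2 => ?_⟩
  · obtain ⟨K₂, _, _, _, hK₂⟩ := SolFinal.isSolution_of_good O hOB E M₀ rfl f₀ (fun _ => rfl) hπE hπ (c2 h)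
    exact ⟨K₂, inferInstance, inferInstance, inferInstance, hK₂⟩
  · have hsepE : Algebra.IsSeparable K E := by
      rw [isSeparable_adjoin_iff_isSeparable]
      rintro _ ⟨t, -, rfl⟩
      have h1 : IsSeparable K' t := Algebra.IsSeparable.isSeparable K' t
      have h2 : IsSeparable K' (φ t) := (isSeparable_map_iff φ (φ : K₁ →+* Ω).injective).2 h1
      exact IsSeparable.of_algebra_isSeparable_of_isSeparable K h2
    obtain ⟨K₂, _, _, _, _, hK₂⟩ := H122.SepFinal.exists_separable_solution_of_good O hOB E M₀ rfl f₀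
      (fun _ => rfl) hπE hπ (c2 h)
    exact ⟨K₂, inferInstance, inferInstance, inferInstance, inferInstance, hK₂⟩

/-- generators of `K₁` over `K'` inside a subfield `N` which generates -/
theorem exists_generators_of_adjoin [Algebra K K₁] [IsScalarTower K K' K₁] (N : IntermediateField K K₁)
    (hN : Algebra.adjoin K' (N : Set K₁) = ⊤) :
    ∃ T : Finset K₁, (∀ t ∈ T, t ∈ N) ∧ Algebra.adjoin K' (T : Set K₁) = ⊤ := by
  have h1 : Submodule.span K' (N : Set K₁) = ⊤ := by
    have h2 := Algebra.adjoin_eq_span K' (N : Set K₁)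
    have h3 : (Submonoid.closure (N : Set K₁) : Set K₁) = (N : Set K₁) :=
      congrArg (fun S : Submonoid K₁ => (S : Set K₁)) (Submonoid.closure_eq N.toSubfield.toSubmonoid)
    rw [h3, hN] at h2
    rw [← h2]
    rfl
  have hfg : (Submodule.span K' (N : Set K₁)).FG := by rw [h1]; exact Module.Finite.fg_top
  obtain ⟨T, hTN, hT⟩ := (Submodule.fg_span_iff_fg_span_finset_subset (N : Set K₁)).1 hfg
  refine ⟨T, fun t ht => hTN ht, ?_⟩
  rw [eq_top_iff]
  intro x _
  have hx : x ∈ Submodule.span K' (T : Set K₁) := by rw [← hT, h1]; trivial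
  exact Algebra.span_le_adjoin K' (T : Set K₁) hx

/-- If `A ⊆ A'` is weakly unramified with separable residue field extension and `K'/K` is algebraic, then `A ⊆ B` has
a weak solution as soon as `A' ⊆ B'` has one which is generated over `K'` by a normal extension of `K`. -/
theorem exists_weakSolution_of_normal [IsAlgClosed Ω] {B : Type u} [CommRing B] [IsDomain B]
    [IsDiscreteValuationRing B] [Algebra B L] [IsFractionRing B L] [Algebra.IsAlgebraic K K']
    (hinj : Function.Injective (algebraMap A A')) (hw : IsWeaklyUnramified A A')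
    [Algebra.IsGeometricallyReduced (ResidueField A) (ResidueField A')]
    (O : ValuationSubring Ω) (hO : Dominates B' ((algebraMap L' Ω).comp (algebraMap B' L')) O)
    (hOB : Dominates B ((algebraMap L Ω).comp (algebraMap B L)) O)
    [Algebra K K₁] [IsScalarTower K K' K₁] (N : IntermediateField K K₁) [hn : Normal K N]
    (hN : Algebra.adjoin K' (N : Set K₁) = ⊤) (h : IsWeakSolution B' K' L' K₁) :
    ∃ (K₂ : Type u) (_ : Field K₂) (_ : Algebra K K₂), FiniteDimensional K K₂ ∧ IsWeakSolution B K L K₂ := by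
  classical
  obtain ⟨T, hTN, hT⟩ := exists_generators_of_adjoin N hN
  let φ : K₁ →ₐ[K'] Ω := IsAlgClosed.lift
  let ψ : K₁ →ₐ[K] Ω := { (φ : K₁ →+* Ω) with
    commutes' := fun c => by
      show φ (algebraMap K K₁ c) = algebraMap K Ω c
      rw [IsScalarTower.algebraMap_apply K K' K₁, φ.commutes, ← IsScalarTower.algebraMap_apply K K' Ω] }
  let ψN : N →ₐ[K] Ω := ψ.comp N.val
  let E₀ : IntermediateField K Ω := adjoin K (φ '' (T : Set K₁))
  have hfin₀ : FiniteDimensional K E₀ := by
    have : Finite (φ '' (T : Set K₁)) := (T.finite_toSet.image φ).to_subtype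
    refine finiteDimensional_adjoin ?_
    rintro _ ⟨t, -, rfl⟩
    have h1 : IsIntegral K' (φ t) := (Algebra.IsIntegral.isIntegral (R := K') t).map φ
    exact isIntegral_trans (R := K) (A := K') _ h1
  have hE₀ : E₀ ≤ ψN.fieldRange := adjoin_le_iff.2 (by rintro _ ⟨t, ht, rfl⟩; exact ⟨⟨t, hTN t ht⟩, rfl⟩)
  let E : IntermediateField K Ω := normalClosure K E₀ Ω
  have hfin : FiniteDimensional K E := inferInstance
  have hclos : IsNormalClosure K E₀ E :=
    Algebra.IsAlgebraic.isNormalClosure_normalClosure fun x => IsAlgClosed.splits _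
  have hnorm : Normal K E := hclos.normal
  have hEψ : E ≤ ψN.fieldRange := by
    refine normalClosure_le_iff.2 fun f => ?_
    rintro _ ⟨x, rfl⟩
    obtain ⟨y, hy⟩ := hE₀ x.2
    have hsp := hn.splits y
    have hint : IsIntegral K y := hn.isIntegral y
    have hne : (minpoly K y).map (algebraMap K N) ≠ 0 := Polynomial.map_ne_zero (minpoly.ne_zero hint)
    have hmin : minpoly K y = minpoly K (x : E₀) := by
      rw [← minpoly.algHom_eq ψN ψN.injective y, ← minpoly.algHom_eq E₀.val E₀.val.injective x]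
      congr 1
    have hroot : (((minpoly K y).map (algebraMap K N)).map (ψN : N →+* Ω)).IsRoot (f x) := by
      rw [Polynomial.IsRoot.def, Polynomial.map_map, Polynomial.eval_map,
        show (ψN : N →+* Ω).comp (algebraMap K N) = algebraMap K Ω from ψN.comp_algebraMap,
        ← Polynomial.aeval_def, hmin, Polynomial.aeval_algHom_apply, minpoly.aeval, map_zero]
    exact hsp.mem_range_of_isRoot hne hroot
  let M₀ : IntermediateField K Ω := (IsScalarTower.toAlgHom K L Ω).fieldRange ⊔ E
  let f₀ : E →+* M₀ := (inclusion (le_sup_right : E ≤ M₀)).toRingHom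
  obtain ⟨c1, -⟩ := core (L := L) hinj hw O hO φ E (fun x hx => by
      obtain ⟨y, hy⟩ := hEψ hx
      exact ⟨y, hy⟩) T hT
    (fun t ht => le_normalClosure E₀ (subset_adjoin _ _ ⟨t, ht, rfl⟩)) M₀ rfl f₀ (fun _ => rfl)
  exact ⟨E, inferInstance, inferInstance, inferInstance,
    SolNormal.isWeakSolution_of_normal O hOB E M₀ rfl f₀ (fun _ => rfl) (c1 h).1⟩

end core

end K420.ReflectSol
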