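import Groth.Agent.EtAlg.K420.EtClosed

/-!
# Unramified extensions to which the valuation extends uniquely

Second version of `K420.EtClosed`: `Int O x` says that `x ∈ O` implies `x` integral over `A`.  For a field `F` of good
integral elements `O ∩ F` is the integral closure of `A`, so it is the only valuation ring of `F` dominating `A`.

* `le_of_irreducible`: `∑ c i * α ^ i` has value at least that of the `c i` if `α` is, residually, a root of an
  irreducible polynomial of degree `n`.
* `good_step'`: adjoining a root of a polynomial with irreducible separable reduction.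
* `isSepClosed_residueField'`.
-/

set_option autoImplicit false
universe u

open IsLocalRing EtRam Groth.Agent.Etalg Groth.Agent.Etalg.RamBasic Groth.Agent.Etalg.ResInd Polynomial

namespace K420.EtClosed

/-- powers of a residual root of an irreducible polynomial are residually independent -/
theorem rli_of_irreducible {F Ω : Type u} [Field F] [Field Ω] (f : F →+* Ω) {O : ValuationSubring Ω}
    (q : (O.comap f)[X]) (hq : q.Monic) (hirr : Irreducible (q.map (residue (O.comap f)))) (α : Ω) (hα : α ∈ O)
    (h0 : q.eval₂ (inclOfComap O f) ⟨α, hα⟩ = 0) :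
    RLI O (f.fieldRange : Set Ω) (fun i : Fin q.natDegree => α ^ (i : ℕ)) := by
  intro s c hc hc1 hs i hi
  -- lift the coefficients
  have hd : ∀ i, ∃ d : O.comap f, i ∈ s → f (d : F) = c i := by
    intro i
    by_cases hi : i ∈ s
    · obtain ⟨d, hd⟩ := hc i hi
      refine ⟨⟨d, ?_⟩, fun _ => hd⟩
      show f d ∈ O
      rw [hd]
      exact (ValuationSubring.valuation_le_one_iff _ _).1 (hc1 i hi)
    · exact ⟨0, fun h => absurd h hi⟩
  choose d hd using hd
  let αO : O := ⟨α, hα⟩
  let h : (O.comap f)[X] := ∑ i ∈ s, C (d i) * X ^ (i : ℕ)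
  let κ := ResidueField (O.comap f)
  let _ : Algebra κ (ResidueField O) := (ResidueField.map (inclOfComap O f)).toAlgebra
  have key : ∀ r : (O.comap f)[X], residue O (r.eval₂ (inclOfComap O f) αO) =
      aeval (residue O αO) (r.map (residue (O.comap f))) := by
    intro r
    rw [aeval_def, eval₂_map, hom_eval₂]
    rfl
  have hval : ((h.eval₂ (inclOfComap O f) αO : O) : Ω) = ∑ i ∈ s, c i * α ^ (i : ℕ) := by
    simp only [h, eval₂_finsetSum, eval₂_mul, eval₂_C, eval₂_pow, eval₂_X]
    rw [AddSubmonoidClass.coe_finsetSum]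
    refine Finset.sum_congr rfl fun i hi => ?_
    show f (d i : F) * α ^ (i : ℕ) = _
    rw [hd i hi]
  have hres : aeval (residue O αO) (h.map (residue (O.comap f))) = 0 := by
    rw [← key, residue_eq_zero_iff, O.valuation_lt_one_iff, hval]
    exact hs
  have hres0 : aeval (residue O αO) (q.map (residue (O.comap f))) = 0 := by
    rw [← key, h0, map_zero]
  have hmin : q.map (residue (O.comap f)) = minpoly κ (residue O αO) :=
    minpoly.eq_of_irreducible_of_monic hirr hres0 (hq.map _)
  have hzero : h.map (residue (O.comap f)) = 0 := by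
    by_contra hne
    have h1 := minpoly.degree_le_of_ne_zero κ (residue O αO) hne hres
    rw [← hmin, hq.degree_map, degree_eq_natDegree hq.ne_zero] at h1
    have h2 : (h.map (residue (O.comap f))).degree < q.natDegree := by
      refine lt_of_le_of_lt degree_map_le ?_
      refine lt_of_le_of_lt (degree_sum_le _ _) ?_
      rw [Finset.sup_lt_iff (WithBot.bot_lt_coe _)]
      intro j _
      refine lt_of_le_of_lt (degree_C_mul_X_pow_le _ _) ?_
      exact_mod_cast j.2
    exact absurd h1 (not_le.2 h2)
  have hcoeff : residue (O.comap f) (d i) = 0 := by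
    have h1 : (h.map (residue (O.comap f))).coeff (i : ℕ) = 0 := by rw [hzero, coeff_zero]
    rw [coeff_map] at h1
    have h2 : h.coeff (i : ℕ) = d i := by
      simp only [h, finsetSum_coeff, coeff_C_mul, coeff_X_pow]
      rw [Finset.sum_eq_single i]
      · simp
      · intro j _ hji
        have : ¬ (i : ℕ) = (j : ℕ) := fun h3 => hji (Fin.ext h3.symm)
        simp [this]
      · intro h3; exact absurd hi h3
    rwa [h2] at h1
  rw [residue_eq_zero_iff, (O.comap f).valuation_lt_one_iff, valuation_comap_lt_one_iff, hd i hi] at hcoeff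
  exact hcoeff

section Int

variable {A K Ω : Type u} [CommRing A] [IsDomain A] [IsDiscreteValuationRing A] [Field K] [Algebra A K]
  [IsFractionRing A K] [Field Ω] [Algebra K Ω] {O : ValuationSubring Ω} {π : A}

omit [IsDomain A] [IsDiscreteValuationRing A] [IsFractionRing A K] in
/-- Adjoining a root of a monic polynomial with irreducible reduction: integrality. -/
theorem int_step (F : IntermediateField K Ω) (hint : ∀ x ∈ F, x ∈ O → (toΩ A K Ω).IsIntegralElem x)
    (q : (O.comap (algebraMap F Ω))[X]) (hq : q.Monic)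
    (hirr : Irreducible (q.map (residue (O.comap (algebraMap F Ω))))) (α : Ω)
    (h0 : (q.map ((algebraMap F Ω).comp (algebraMap (O.comap (algebraMap F Ω)) F))).eval α = 0)
    (x : Ω) (hx : x ∈ IntermediateField.adjoin F {α}) (hxO : x ∈ O) : (toΩ A K Ω).IsIntegralElem x := by
  let V := O.comap (algebraMap F Ω)
  let ι : V →+* Ω := (algebraMap F Ω).comp (algebraMap V F)
  have hι : ∀ w, ι w ∈ O := fun w => w.2
  have hαO : α ∈ O := DVRExt.mem_of_isIntegralElem O ι hι ⟨q, hq, by rw [← eval_map]; exact h0⟩
  have h0' : q.eval₂ (inclOfComap O (algebraMap F Ω)) ⟨α, hαO⟩ = 0 := by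
    apply Subtype.ext
    have h1 := hom_eval₂ q (inclOfComap O (algebraMap F Ω)) (algebraMap O Ω) ⟨α, hαO⟩
    rw [eval_map] at h0
    exact h1.trans h0
  have hrli := rli_of_irreducible (algebraMap F Ω) q hq hirr α hαO h0'
  have hdeg : 0 < q.natDegree := by
    rw [← hq.natDegree_map (residue V)]
    exact hirr.natDegree_pos
  -- the polynomial over `F`
  have hroot : aeval α (q.map (algebraMap V F)) = 0 := by
    rw [aeval_def, eval₂_map, ← eval_map]
    exact h0
  have hαint : IsIntegral F α := ⟨q.map (algebraMap V F), hq.map _, hroot⟩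
  obtain ⟨p, hp⟩ : ∃ p : F[X], aeval α p = x := by
    have h1 : x ∈ (IntermediateField.adjoin F {α}).toSubalgebra := hx
    rw [IntermediateField.adjoin_simple_toSubalgebra_of_isAlgebraic hαint.isAlgebraic, Algebra.adjoin_singleton_eq_range_aeval] at h1
    exact h1
  let r : F[X] := p %ₘ (q.map (algebraMap V F))
  have hr : aeval α r = x := by
    rw [← hp]
    exact aeval_modByMonic_eq_self_of_root hroot
  have hrdeg : r.natDegree < q.natDegree := by
    have h1 : q.map (algebraMap V F) ≠ 1 := by
      intro h2
      have h3 := hq.natDegree_map (algebraMap V F)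
      rw [h2, natDegree_one] at h3
      omega
    have h2 := natDegree_modByMonic_lt p (hq.map (algebraMap V F)) h1
    rwa [hq.natDegree_map] at h2
  have hsum : x = ∑ i : Fin q.natDegree, ((r.coeff i : F) : Ω) * α ^ (i : ℕ) := by
    rw [← hr, aeval_eq_sum_range' hrdeg, Finset.sum_range]
    exact Finset.sum_congr rfl fun i _ => Algebra.smul_def _ _
  have hcoeff : ∀ i : Fin q.natDegree, ((r.coeff i : F) : Ω) ∈ O := by
    intro i
    rw [← ValuationSubring.valuation_le_one_iff]
    have h1 := RLI.le_sum (F := (algebraMap F Ω).fieldRange) hrli Finset.univ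
      (fun i => ((r.coeff i : F) : Ω)) (fun j _ => ⟨r.coeff j, rfl⟩) i (Finset.mem_univ i)
    rw [← hsum] at h1
    exact h1.trans ((ValuationSubring.valuation_le_one_iff _ _).2 hxO)
  -- integrality
  let _ : Algebra A Ω := (toΩ A K Ω).toAlgebra
  let C := integralClosure A Ω
  let jC : V →+* C := ι.codRestrict C (fun v => hint _ (v : F).2 v.2)
  have hαC : IsIntegral C α := ⟨q.map jC, hq.map _, by
    rw [eval₂_map]
    rw [eval_map] at h0
    exact h0⟩
  have hαA : IsIntegral A α := isIntegral_trans α hαC
  show IsIntegral A x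
  rw [hsum]
  exact IsIntegral.sum _ fun i _ => (show IsIntegral A ((r.coeff i : F) : Ω) from
    hint _ (r.coeff i).2 (hcoeff i)).mul (hαA.pow _)

end Int

/-- The residue field of `O ∩ M` is separably closed if `M` contains the roots of the monic polynomials with
irreducible separable reduction. -/
theorem isSepClosed_residueField' {Ω : Type u} [Field Ω] {O : ValuationSubring Ω} [IsAlgClosed Ω] {M : Type u}
    [Field M] (f : M →+* Ω)
    (hF : ∀ q : (O.comap f)[X], q.Monic → Irreducible (q.map (residue (O.comap f))) → ∀ α : Ω,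
      (q.map (f.comp (algebraMap (O.comap f) M))).eval α = 0 →
      O.valuation ((q.map (f.comp (algebraMap (O.comap f) M))).derivative.eval α) = 1 → α ∈ Set.range f) :
    IsSepClosed (ResidueField (O.comap f)) := by
  refine IsSepClosed.of_exists_root _ fun p hm hirr hsep => ?_
  let W := O.comap f
  obtain ⟨q, hq, hqdeg, hqm⟩ : ∃ q : W[X], q.map (residue W) = p ∧ q.natDegree = p.natDegree ∧ q.Monic := by
    refine lifts_and_natDegree_eq_and_monic ?_ hm
    rw [lifts_iff_coeff_lifts]
    exact fun n => residue_surjective _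
  let ι : W →+* Ω := f.comp (algebraMap W M)
  have hι : ∀ w, ι w ∈ O := fun w => w.2
  have hdeg : (q.map ι).degree ≠ 0 := by
    rw [hqm.degree_map]
    intro h0
    have h1 : q.natDegree = 0 := natDegree_eq_of_degree_eq_some h0
    rw [hqdeg] at h1
    exact hirr.natDegree_pos.ne' h1
  obtain ⟨α, hα⟩ := IsAlgClosed.exists_root (q.map ι) hdeg
  have hα0 : (q.map ι).eval α = 0 := hα
  have hαO : α ∈ O := DVRExt.mem_of_isIntegralElem O ι hι ⟨q, hqm, by rw [← eval_map]; exact hα0⟩
  have key : ∀ r : W[X], residue O (r.eval₂ (inclOfComap O f) ⟨α, hαO⟩) =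
      (r.map (residue W)).eval₂ (ResidueField.map (inclOfComap O f)) (residue O ⟨α, hαO⟩) := by
    intro r
    rw [eval₂_map, hom_eval₂]
    rfl
  have key2 : ∀ r : W[X], ((r.eval₂ (inclOfComap O f) ⟨α, hαO⟩ : O) : Ω) = (r.map ι).eval α := by
    intro r
    have := hom_eval₂ r (inclOfComap O f) (algebraMap O Ω) ⟨α, hαO⟩
    rw [eval_map]
    exact this
  have hd : O.valuation ((q.map ι).derivative.eval α) = 1 := by
    rw [derivative_map, ← key2]
    refine le_antisymm (O.valuation_le_one _) ?_
    rw [← not_lt, ← O.valuation_lt_one_iff, ← residue_eq_zero_iff, key, ← derivative_map, hq]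
    obtain ⟨a, b, hab⟩ := hsep
    intro h0
    have h1 := congrArg (fun r => eval₂ (ResidueField.map (inclOfComap O f)) (residue O ⟨α, hαO⟩) r) hab
    simp only [eval₂_add, eval₂_mul, eval₂_one] at h1
    rw [h0, mul_zero, add_zero, ← hq, ← key] at h1
    have h2 : q.eval₂ (inclOfComap O f) ⟨α, hαO⟩ = 0 := by
      apply Subtype.ext
      rw [key2, hα0]
      rfl
    rw [h2, map_zero, mul_zero] at h1
    exact zero_ne_one h1
  obtain ⟨m, hmα⟩ := hF q hqm (by rw [hq]; exact hirr) α hα0 hd
  have hmW : m ∈ W := by
    show f m ∈ O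
    rw [hmα]; exact hαO
  refine ⟨residue W ⟨m, hmW⟩, ?_⟩
  have h3 : q.eval ⟨m, hmW⟩ = 0 := by
    apply Subtype.ext
    apply f.injective
    show ι (q.eval ⟨m, hmW⟩) = ι 0
    rw [map_zero, ← eval_map_apply]
    exact (congrArg (fun y => (q.map ι).eval y) hmα).trans hα0
  rw [← hq, eval_map_apply, h3, map_zero]

section package

variable {A K Ω : Type u} [CommRing A] [IsDomain A] [IsDiscreteValuationRing A] [Field K] [Algebra A K]
  [IsFractionRing A K] [Field Ω] [Algebra K Ω] {O : ValuationSubring Ω} {π : A}
  (hO : Dominates A (toΩ A K Ω) O) (hπ : Irreducible π) (F : IntermediateField K Ω)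
  (hF : ∀ x ∈ F, Good A K O π x)

include hO hπ hF

/-- `K420.EtClosed.package`, with the separable closedness of the residue field as a hypothesis. -/
theorem package' (hsc : IsSepClosed (ResidueField (O.comap (algebraMap F Ω))))
    [Algebra A (O.comap (algebraMap F Ω))]
    (hg : ∀ a, (((algebraMap A (O.comap (algebraMap F Ω)) a : O.comap (algebraMap F Ω)) : F) : Ω) = toΩ A K Ω a)
    [hloc : IsLocalHom (algebraMap A (O.comap (algebraMap F Ω)))] :
    Function.Injective (algebraMap A (O.comap (algebraMap F Ω))) ∧
    IsWeaklyUnramified A (O.comap (algebraMap F Ω)) ∧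
    IsSepClosure (ResidueField A) (ResidueField (O.comap (algebraMap F Ω))) ∧
    (letI := (ResidueField.map (algebraMap A (O.comap (algebraMap F Ω)))).toAlgebra
     IsSepClosure (ResidueField A) (ResidueField (O.comap (algebraMap F Ω)))) := by
  have hunif := isUnif_of_good hO hπ hF
  have hss : Algebra.IsSeparable (ResidueField A) (ResidueField (O.comap (algebraMap F Ω))) := by
    refine ⟨fun y => ?_⟩
    obtain ⟨v, rfl⟩ := residue_surjective y
    exact (resSep_iff (algebraMap F Ω) (O.comap (algebraMap F Ω)) rfl (toΩ A K Ω) hg v).1 ((hF _ v.1.2).res v.2)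
  have hcls : IsSepClosure (ResidueField A) (ResidueField (O.comap (algebraMap F Ω))) := ⟨hsc, hss⟩
  refine ⟨?_, ?_, hcls, ?_⟩
  · intro a b hab
    have h1 : toΩ A K Ω a = toΩ A K Ω b := by rw [← hg, ← hg, hab]
    exact IsFractionRing.injective A K ((algebraMap K Ω).injective h1)
  · show (maximalIdeal A).map (algebraMap A (O.comap (algebraMap F Ω))) = maximalIdeal _
    apply le_antisymm
    · exact ((local_hom_TFAE (algebraMap A (O.comap (algebraMap F Ω)))).out 0 2 rfl rfl).mp hloc
    · intro x hx
      have hx1 : O.valuation ((x : F) : Ω) < 1 := by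
        rw [(O.comap (algebraMap F Ω)).valuation_lt_one_iff, valuation_comap_lt_one_iff] at hx
        exact hx
      have hx2 := hunif.le_of_lt_one x.1.2 hx1
      have hπ0 : toΩ A K Ω π ≠ 0 := hunif.1
      have hmem : ((x : F) : Ω) / toΩ A K Ω π ∈ O := by
        rw [← ValuationSubring.valuation_le_one_iff, map_div₀]
        exact (div_le_one₀ hunif.pos).2 hx2
      let y : O.comap (algebraMap F Ω) := ⟨⟨((x : F) : Ω) / toΩ A K Ω π,
        div_mem (x : F).2 (F.algebraMap_mem _)⟩, hmem⟩
      have hxy : x = algebraMap A (O.comap (algebraMap F Ω)) π * y := by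
        apply Subtype.ext
        apply Subtype.ext
        show ((x : F) : Ω) = (((algebraMap A (O.comap (algebraMap F Ω)) π : O.comap (algebraMap F Ω)) : F) : Ω) *
          (((x : F) : Ω) / toΩ A K Ω π)
        rw [hg, mul_div_cancel₀ _ hπ0]
      rw [hxy]
      refine Ideal.mul_mem_right _ _ (Ideal.mem_map_of_mem _ ?_)
      rw [mem_maximalIdeal, mem_nonunits_iff]
      exact hπ.not_isUnit
  · have h : (ResidueField.map (algebraMap A (O.comap (algebraMap F Ω)))).toAlgebra =
        (inferInstance : Algebra (ResidueField A) (ResidueField (O.comap (algebraMap F Ω)))) := by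
      apply Algebra.algebra_ext
      intro r
      obtain ⟨a, rfl⟩ := residue_surjective r
      rfl
    rw [h]
    exact hcls

end package

end K420.EtClosed
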