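import Groth.Agent.Etalg.SolDescent
import Groth.Agent.EtAlg.K420.Gauss
import Groth.Agent.EtAlg.K420.ReflectSol

/-!
# Reflection of weak solutions

Setting of `K420.ReflectSol`; in addition `A'` is integral over `A` and the residue field of `A` is separably closed in
that of `B`.  Then every weak solution for `A' ⊆ B'` gives one for `A ⊆ B`.
-/

set_option autoImplicit false
universe u

open IsLocalRing EtRam Groth.Agent.Etalg Groth.Agent.Etalg.RamBasic Groth.Agent.Etalg.ResInd TensorProduct
  IntermediateField K420.ReflectSol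

namespace K420.WeakRefl

section descent

variable {K K' N : Type u} [Field K] [Field K'] [Field N] [Algebra K K'] [Algebra K' N] [Algebra K N]
  [IsScalarTower K K' N] [Algebra.IsAlgebraic K K']

/-- A finite extension of `K'` comes from a finite level: `N = K' ⊗ E` over `K₂`. -/
theorem exists_level {ι : Type u} [Fintype ι] (b : Module.Basis ι K' N) :
    ∃ (K₂ : IntermediateField K K') (E : IntermediateField K N), FiniteDimensional K K₂ ∧ FiniteDimensional K E ∧
      ∀ x, x ∈ E ↔ ∃ c : ι → K₂, x = ∑ i, algebraMap K' N (c i) * b i := by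
  classical
  let Y : Set K' := (Set.range fun q : ι × ι × ι => b.repr (b q.1 * b q.2.1) q.2.2) ∪
    Set.range fun k : ι => b.repr 1 k
  have hY : Finite Y := ((Set.finite_range _).union (Set.finite_range _)).to_subtype
  let K₂ : IntermediateField K K' := adjoin K Y
  have hfin : FiniteDimensional K K₂ := finiteDimensional_adjoin fun x _ => Algebra.IsIntegral.isIntegral x
  let F : IntermediateField K N := K₂.map (IsScalarTower.toAlgHom K K' N)
  have hF : ∀ y : K', y ∈ K₂ → algebraMap K' N y ∈ F := fun y hy => ⟨y, hy, rfl⟩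
  obtain ⟨E, -, hE⟩ := SolDescent.span_eq_field F (fun i => b i)
    ⟨fun i => ⟨algebraMap K' N (b.repr 1 i), hF _ (subset_adjoin _ _ (Or.inr ⟨i, rfl⟩))⟩, by
      conv_lhs => rw [← b.sum_repr 1]
      exact Finset.sum_congr rfl fun i _ => Algebra.smul_def _ _⟩
    (fun i j => ⟨fun k => ⟨algebraMap K' N (b.repr (b i * b j) k),
        hF _ (subset_adjoin _ _ (Or.inl ⟨(i, j, k), rfl⟩))⟩, by
      conv_lhs => rw [← b.sum_repr (b i * b j)]
      exact Finset.sum_congr rfl fun i _ => Algebra.smul_def _ _⟩)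
  have hE' : ∀ x, x ∈ E ↔ ∃ c : ι → K₂, x = ∑ i, algebraMap K' N (c i) * b i := by
    intro x
    rw [hE]
    constructor
    · rintro ⟨c, hc⟩
      have h1 : ∀ i, ∃ y : K₂, algebraMap K' N y = (c i : N) := by
        intro i
        obtain ⟨y, hy, hyc⟩ := (c i).2
        exact ⟨⟨y, hy⟩, hyc⟩
      choose y hy using h1
      exact ⟨y, by rw [hc]; exact Finset.sum_congr rfl fun i _ => by rw [hy]⟩
    · rintro ⟨c, hc⟩
      exact ⟨fun i => ⟨algebraMap K' N (c i), hF _ (c i).2⟩, hc⟩
  refine ⟨K₂, E, hfin, ?_, hE'⟩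
  let Λ : (ι → K₂) →ₗ[K] N :=
    { toFun := fun c => ∑ i, algebraMap K' N (c i) * b i
      map_add' := fun c d => by
        rw [← Finset.sum_add_distrib]
        refine Finset.sum_congr rfl fun i _ => ?_
        rw [Pi.add_apply, IntermediateField.coe_add, map_add, add_mul]
      map_smul' := fun r c => by
        rw [RingHom.id_apply, Finset.smul_sum]
        refine Finset.sum_congr rfl fun i _ => ?_
        rw [Pi.smul_apply, IntermediateField.coe_smul, Algebra.smul_def, map_mul,
          ← IsScalarTower.algebraMap_apply K K' N, Algebra.smul_def, mul_assoc] }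
  let Λ' : (ι → K₂) →ₗ[K] (Subalgebra.toSubmodule E.toSubalgebra) :=
    Λ.codRestrict _ (fun c => (hE' _).2 ⟨c, rfl⟩)
  have hΛ : Function.Surjective Λ' := by
    rintro ⟨x, hx⟩
    obtain ⟨c, hc⟩ := (hE' x).1 hx
    exact ⟨c, Subtype.ext hc.symm⟩
  exact Module.Finite.of_surjective Λ' hΛ

omit [IsScalarTower K K' N] [Algebra.IsAlgebraic K K'] in
/-- Homomorphisms of `N = K' ⊗ E` (over `K₂`). -/
theorem exists_hom {ι : Type u} [Fintype ι] (b : Module.Basis ι K' N) (K₂ : IntermediateField K K')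
    (E : IntermediateField K N) (hE : ∀ x, x ∈ E ↔ ∃ c : ι → K₂, x = ∑ i, algebraMap K' N (c i) * b i)
    {Ω : Type u} [Field Ω] (h : E →+* Ω) (f : K' →+* Ω)
    (hf : ∀ (k : K') (_ : k ∈ K₂) (hkE : algebraMap K' N k ∈ E), h ⟨algebraMap K' N k, hkE⟩ = f k) :
    ∃ θ : N →+* Ω, (∀ x : K', θ (algebraMap K' N x) = f x) ∧ (∀ x : E, θ x = h x) := by
  classical
  have hbE : ∀ i, b i ∈ E := by
    intro i
    rw [hE]
    refine ⟨Pi.single i 1, ?_⟩
    rw [Finset.sum_eq_single i]
    · simp
    · intro j _ hji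
      rw [Pi.single_eq_of_ne hji]
      simp
    · intro hi; exact absurd (Finset.mem_univ i) hi
  have hkE : ∀ k : K₂, algebraMap K' N k ∈ E := by
    intro k
    obtain ⟨c, hc⟩ := (hE 1).1 E.one_mem
    rw [hE]
    refine ⟨fun i => k * c i, ?_⟩
    conv_lhs => rw [← mul_one (algebraMap K' N (k : K')), hc, Finset.mul_sum]
    refine Finset.sum_congr rfl fun i _ => ?_
    rw [IntermediateField.coe_mul, map_mul, mul_assoc]
  let _ : Algebra K' Ω := f.toAlgebra
  let θ₀ : N →ₗ[K'] Ω := b.constr K' (fun i => h ⟨b i, hbE i⟩)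
  have hθb : ∀ i, θ₀ (b i) = h ⟨b i, hbE i⟩ := fun i => b.constr_basis K' _ i
  have hθE : ∀ x : E, θ₀ (x : N) = h x := by
    intro x
    obtain ⟨c, hc⟩ := (hE x).1 x.2
    have h1 : x = ∑ i, (⟨algebraMap K' N (c i), hkE _⟩ : E) * ⟨b i, hbE i⟩ := by
      apply Subtype.ext
      rw [hc, AddSubmonoidClass.coe_finsetSum]
      rfl
    have h2 : (x : N) = ∑ i, ((c i : K₂) : K') • b i := by
      rw [hc]
      exact Finset.sum_congr rfl fun i _ => (Algebra.smul_def _ _).symm
    rw [h2, map_sum]
    conv_rhs => rw [h1, map_sum]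
    refine Finset.sum_congr rfl fun i _ => ?_
    rw [map_smul, hθb, Algebra.smul_def, map_mul, hf _ (c i).2]
    rfl
  have hone : θ₀ 1 = 1 := by
    have h1 := hθE 1
    rw [map_one] at h1
    exact h1
  have hmul : ∀ x y, θ₀ (x * y) = θ₀ x * θ₀ y := by
    have h2 : (LinearMap.mul K' N).compr₂ θ₀ = (LinearMap.mul K' Ω).compl₁₂ θ₀ θ₀ := by
      refine b.ext fun i => b.ext fun j => ?_
      show θ₀ (b i * b j) = θ₀ (b i) * θ₀ (b j)
      have h3 := hθE (⟨b i, hbE i⟩ * ⟨b j, hbE j⟩)
      rw [map_mul, ← hθb, ← hθb] at h3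
      exact h3
    intro x y
    exact LinearMap.congr_fun (LinearMap.congr_fun h2 x) y
  let θ : N →+* Ω :=
    { toFun := θ₀
      map_one' := hone
      map_mul' := hmul
      map_zero' := map_zero _
      map_add' := map_add _ }
  refine ⟨θ, fun x => ?_, hθE⟩
  show θ₀ (algebraMap K' N x) = f x
  rw [Algebra.algebraMap_eq_smul_one, map_smul, hone, Algebra.smul_def, mul_one]
  rfl

end descent

/-- The valuation subring `V₂`, integral and weakly unramified over `A`, is the only one dominating `A`. -/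
theorem eq_of_dominates {A K₂ : Type u} [CommRing A] [IsLocalRing A] [Field K₂] (g : A →+* K₂)
    (V₂ W : ValuationSubring K₂) (hint : ∀ x ∈ V₂, g.IsIntegralElem x) (hW : Dominates A g W) {π : A}
    (hπ : π ∈ maximalIdeal A) (hw : ∀ x ∈ V₂, V₂.valuation x < 1 → V₂.valuation x ≤ V₂.valuation (g π)) :
    W = V₂ := by
  have hle : ∀ x ∈ V₂, x ∈ W := fun x hx => DVRExt.mem_of_isIntegralElem W g hW.1 (hint x hx)
  ext x
  refine ⟨fun hx => ?_, hle x⟩
  by_contra hn
  have hx1 : 1 < V₂.valuation x := by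
    rw [← not_le, ValuationSubring.valuation_le_one_iff]
    exact hn
  have hx0 : x ≠ 0 := by
    rintro rfl
    exact hn V₂.zero_mem
  have hinv : V₂.valuation x⁻¹ < 1 := by
    rw [map_inv₀]
    exact inv_lt_one_of_one_lt₀ hx1
  have h1 := hw x⁻¹ ((ValuationSubring.valuation_le_one_iff _ _).1 hinv.le) hinv
  obtain ⟨y, hy⟩ := (V₂.valuation_le_iff _ _).1 h1
  have h2 : W.valuation ((x * y) * g π) = 1 := by
    rw [mul_assoc, hy, mul_inv_cancel₀ hx0, map_one]
  rw [map_mul] at h2
  have h3 : W.valuation (x * (y : K₂)) ≤ 1 :=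
    (ValuationSubring.valuation_le_one_iff _ _).2 (mul_mem hx (hle _ y.2))
  have h4 : W.valuation (g π) < 1 := hW.2 π hπ
  have h5 : W.valuation (x * (y : K₂)) * W.valuation (g π) < 1 :=
    lt_of_le_of_lt (mul_le_mul' h3 le_rfl) (by rwa [one_mul])
  exact absurd h2 h5.ne

section main

variable {A K K' B L L' N : Type u}
  [CommRing A] [IsDomain A] [IsDiscreteValuationRing A] [Field K] [Algebra A K] [IsFractionRing A K]
  [CommRing B] [IsDomain B] [IsDiscreteValuationRing B] [Field L] [Algebra B L] [IsFractionRing B L]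
  [Algebra A B] [IsLocalHom (algebraMap A B)] [Algebra K L] [Algebra A L] [IsScalarTower A K L]
  [IsScalarTower A B L]
  [Field K'] [Field L'] {A' : ValuationSubring K'} {B' : ValuationSubring L'} [IsDiscreteValuationRing A']
  [IsDiscreteValuationRing B']
  [Algebra A A'] [IsLocalHom (algebraMap A A')] [Algebra K K'] [Algebra A K'] [IsScalarTower A K K']
  [IsScalarTower A A' K']
  [Algebra A' B'] [IsLocalHom (algebraMap A' B')] [Algebra K' L'] [Algebra A' L'] [IsScalarTower A' K' L']
  [IsScalarTower A' B' L']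
  [Algebra B B'] [IsLocalHom (algebraMap B B')] [Algebra L L'] [Algebra B L'] [IsScalarTower B L L']
  [IsScalarTower B B' L']
  [Algebra K L'] [IsScalarTower K K' L'] [IsScalarTower K L L']
  [Field N] [Algebra K' N] [FiniteDimensional K' N]

/-- If `A ⊆ A'` is weakly unramified, integral, with separable residue field extension, `K'/K` is separable and the
residue field of `A` is separably closed in that of `B`, then `A ⊆ B` has a weak solution as soon as `A' ⊆ B'` has. -/
theorem exists_weakSolution (hinj : Function.Injective (algebraMap A A')) (hw : IsWeaklyUnramified A A')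
    [Algebra.IsSeparable K K'] [Algebra.IsSeparable (ResidueField A) (ResidueField A')] [Algebra.IsIntegral A A']
    (H : separableClosure (ResidueField A) (ResidueField B) = ⊥) (h : IsWeakSolution B' K' L' N) :
    ∃ (K₂ : Type u) (_ : Field K₂) (_ : Algebra K K₂), FiniteDimensional K K₂ ∧ IsWeakSolution B K L K₂ := by
  classical
  have gr : Algebra.IsGeometricallyReduced (ResidueField A) (ResidueField A') :=
    SepSol2.isGeometricallyReduced_of_isSeparable _ _
  let iKN : Algebra K N := ((algebraMap K' N).comp (algebraMap K K')).toAlgebra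
  have tKN : IsScalarTower K K' N := IsScalarTower.of_algebraMap_eq' rfl
  let b := Module.Free.chooseBasis K' N
  obtain ⟨K₂, E, hK₂, hEf, hE⟩ := exists_level (K := K) b
  refine ⟨E, inferInstance, inferInstance, hEf, ?_⟩
  -- the valuation ring of `K₂`
  let V₂ : ValuationSubring K₂ := A'.comap (algebraMap K₂ K')
  obtain ⟨π, hπ⟩ := IsDiscreteValuationRing.exists_irreducible A
  have hπm : π ∈ maximalIdeal A := by
    rw [mem_maximalIdeal, mem_nonunits_iff]
    exact hπ.not_isUnit
  have hmax : maximalIdeal A = Ideal.span {π} := hπ.maximalIdeal_eq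
  let gA : A →+* K₂ := (algebraMap K K₂).comp (algebraMap A K)
  have hgA : ∀ a, algebraMap K₂ K' (gA a) = ((algebraMap A A' a : A') : K') := by
    intro a
    show algebraMap K K' (algebraMap A K a) = algebraMap A' K' (algebraMap A A' a)
    rw [← IsScalarTower.algebraMap_apply A K K', ← IsScalarTower.algebraMap_apply A A' K']
  have hdom2 : Dominates A gA V₂ := by
    refine ⟨fun a => ?_, fun a ha => ?_⟩
    · show algebraMap K₂ K' (gA a) ∈ A'
      rw [hgA]; exact (algebraMap A A' a).2
    · rw [valuation_comap_lt_one_iff, hgA, ← A'.valuation_lt_one_iff]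
      exact (((local_hom_TFAE (algebraMap A A')).out 0 2 rfl rfl).mp ‹_›) (Ideal.mem_map_of_mem _ ha)
  let iA2 : Algebra A V₂ := (gA.codRestrict V₂ hdom2.1).toAlgebra
  have lA2 : IsLocalHom (algebraMap A V₂) := Dominates.isLocalHom hdom2
  let i2A' : Algebra V₂ A' := (inclOfComap A' (algebraMap K₂ K')).toAlgebra
  have l2A' : IsLocalHom (algebraMap V₂ A') := isLocalHom_inclOfComap A' (algebraMap K₂ K')
  have t2A' : IsScalarTower A V₂ A' := IsScalarTower.of_algebraMap_eq fun a => Subtype.ext (hgA a).symm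
  have hsep2 : Algebra.IsSeparable (ResidueField A) (ResidueField V₂) :=
    Algebra.isSeparable_tower_bot_of_isSeparable (ResidueField A) (ResidueField V₂) (ResidueField A')
  have hint2 : ∀ x ∈ V₂, gA.IsIntegralElem x := by
    intro x hx
    obtain ⟨p, hp, hpx⟩ := Algebra.IsIntegral.isIntegral (R := A) (⟨algebraMap K₂ K' x, hx⟩ : A')
    refine ⟨p, hp, (algebraMap K₂ K').injective ?_⟩
    rw [map_zero, Polynomial.hom_eval₂]
    have h1 := congrArg (algebraMap A' K') hpx
    rw [map_zero, Polynomial.hom_eval₂] at h1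
    have h2 : (algebraMap K₂ K').comp gA = (algebraMap A' K').comp (algebraMap A A') := RingHom.ext hgA
    rw [h2]
    exact h1
  have hw2 : ∀ x ∈ V₂, V₂.valuation x < 1 → V₂.valuation x ≤ V₂.valuation (gA π) := by
    intro x hx hx1
    rw [valuation_comap_lt_one_iff] at hx1
    rw [valuation_comap_le_iff, hgA]
    have h1 : (⟨algebraMap K₂ K' x, hx⟩ : A') ∈ maximalIdeal A' := (A'.valuation_lt_one_iff _).2 hx1
    have h2 : (maximalIdeal A).map (algebraMap A A') = maximalIdeal A' := hw
    rw [← h2, hmax, Ideal.map_span, Set.image_singleton, Ideal.mem_span_singleton'] at h1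
    obtain ⟨y, hy⟩ := h1
    rw [A'.valuation_le_iff]
    exact ⟨y, congrArg Subtype.val hy⟩
  obtain ⟨κ, _, b₂, hb₂, hb₂'⟩ := Gauss.exists_basis V₂ hdom2.1 hint2
  intro M _ _ _ _ _ _ hadj W hW
  -- `K₂ → E`
  have hkE : ∀ k : K₂, algebraMap K' N (algebraMap K₂ K' k) ∈ E := by
    intro k
    obtain ⟨c, hc⟩ := (hE 1).1 E.one_mem
    rw [hE]
    refine ⟨fun i => k * c i, ?_⟩
    conv_lhs => rw [← mul_one (algebraMap K' N (algebraMap K₂ K' k)), hc, Finset.mul_sum]
    refine Finset.sum_congr rfl fun i _ => ?_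
    rw [IntermediateField.coe_mul, map_mul, mul_assoc]
    rfl
  let kE : K₂ →+* E := ((algebraMap K' N).comp (algebraMap K₂ K')).codRestrict E hkE
  let iK₁ : K₂ →+* M := (algebraMap E M).comp kE
  have hc₁ : (algebraMap L M).comp (algebraMap K L) = iK₁.comp (algebraMap K K₂) := by
    ext x
    show algebraMap L M (algebraMap K L x) = algebraMap E M (kE (algebraMap K K₂ x))
    have h1 : kE (algebraMap K K₂ x) = algebraMap K E x := Subtype.ext rfl
    rw [h1, ← IsScalarTower.algebraMap_apply K L M, ← IsScalarTower.algebraMap_apply K E M]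
  have hAB : ∀ a : A, algebraMap K L (algebraMap A K a) = algebraMap B L (algebraMap A B a) := by
    intro a
    rw [← IsScalarTower.algebraMap_apply A K L, ← IsScalarTower.algebraMap_apply A B L]
  have hV1 : W.comap iK₁ = V₂ := by
    refine eq_of_dominates gA V₂ _ hint2 ?_ hπm hw2
    rw [← dominates_comp_iff]
    have h1 : iK₁.comp gA = ((algebraMap L M).comp (algebraMap B L)).comp (algebraMap A B) := by
      ext a
      show iK₁ (algebraMap K K₂ (algebraMap A K a)) = algebraMap L M (algebraMap B L (algebraMap A B a))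
      rw [← hAB]
      exact (congrArg (fun g : K →+* M => g (algebraMap A K a)) hc₁).symm
    rw [h1]
    refine ⟨fun a => hW.1 _, fun a ha => hW.2 _ ?_⟩
    exact (((local_hom_TFAE (algebraMap A B)).out 0 2 rfl rfl).mp ‹_›) (Ideal.mem_map_of_mem _ ha)
  -- `K₂ → L'`
  let iK₂ : K₂ →+* L' := (algebraMap K' L').comp (algebraMap K₂ K')
  have hc₂ : (algebraMap L L').comp (algebraMap K L) = iK₂.comp (algebraMap K K₂) := by
    ext x
    show algebraMap L L' (algebraMap K L x) = algebraMap K' L' (algebraMap K K' x)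
    rw [← IsScalarTower.algebraMap_apply K L L', ← IsScalarTower.algebraMap_apply K K' L']
  have hA'B' : B'.comap (algebraMap K' L') = A' := by
    rw [← dominates_comp_subtype_iff]
    have h1 : (algebraMap K' L').comp A'.subtype = (algebraMap B' L').comp (algebraMap A' B') := by
      ext x
      show algebraMap K' L' (algebraMap A' K' x) = algebraMap B' L' (algebraMap A' B' x)
      rw [← IsScalarTower.algebraMap_apply A' K' L', ← IsScalarTower.algebraMap_apply A' B' L']
    rw [h1]
    refine ⟨fun a => (algebraMap A' B' a).2, fun a ha => ?_⟩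
    refine (B'.valuation_lt_one_iff _).1 ?_
    exact (((local_hom_TFAE (algebraMap A' B')).out 0 2 rfl rfl).mp ‹_›) (Ideal.mem_map_of_mem _ ha)
  have hV2 : B'.comap iK₂ = V₂ := by
    show (B'.comap (algebraMap K' L')).comap (algebraMap K₂ K') = V₂
    rw [hA'B']
  have hB₂ : Dominates B ((algebraMap L L').comp (algebraMap B L)) B' := by
    have h1 : (algebraMap L L').comp (algebraMap B L) = (algebraMap B' L').comp (algebraMap B B') := by
      rw [← IsScalarTower.algebraMap_eq B L L', ← IsScalarTower.algebraMap_eq B B' L']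
    rw [h1]
    refine ⟨fun a => (algebraMap B B' a).2, fun a ha => ?_⟩
    refine (B'.valuation_lt_one_iff _).1 ?_
    exact (((local_hom_TFAE (algebraMap B B')).out 0 2 rfl rfl).mp ‹_›) (Ideal.mem_map_of_mem _ ha)
  have hr₁ := Gauss.rli_gauss (B := B) hπm hAB V₂ (fun _ => rfl) hw2 H b₂ hb₂ hb₂' W (algebraMap L M) iK₁ hc₁ hW hV1
  have hr₂ := Gauss.rli_gauss (B := B) hπm hAB V₂ (fun _ => rfl) hw2 H b₂ hb₂ hb₂' B' (algebraMap L L') iK₂ hc₂ hB₂
    hV2
  obtain ⟨Ω, _, f₁, f₂, O, hO₁, hO₂, hL, hK⟩ := Gauss.exists_common (B := B) b₂ W (algebraMap L M) iK₁ hc₁ hW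
    (fun i => by
      have h1 := hb₂ i
      rw [← hV1] at h1
      exact h1) hr₁ B' (algebraMap L L') iK₂ hc₂ hB₂
    (fun i => by
      have h1 := hb₂ i
      rw [← hV2] at h1
      exact h1) hr₂
  obtain ⟨θ, hθ₁, hθ₂⟩ := exists_hom b K₂ E hE (f₁.comp (algebraMap E M)) (f₂.comp (algebraMap K' L'))
    (fun k hk hkE => hK ⟨k, hk⟩)
  -- the algebra structures on `Ω`
  let a1 : Algebra L' Ω := f₂.toAlgebra
  let a2 : Algebra K' Ω := (f₂.comp (algebraMap K' L')).toAlgebra
  let a3 : Algebra L Ω := (f₂.comp (algebraMap L L')).toAlgebra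
  let a4 : Algebra K Ω := (f₂.comp (algebraMap K L')).toAlgebra
  have s1 : IsScalarTower K' L' Ω := IsScalarTower.of_algebraMap_eq' rfl
  have s2 : IsScalarTower L L' Ω := IsScalarTower.of_algebraMap_eq' rfl
  have s3 : IsScalarTower K K' Ω := IsScalarTower.of_algebraMap_eq fun x => by
    show f₂ (algebraMap K L' x) = f₂ (algebraMap K' L' (algebraMap K K' x))
    rw [← IsScalarTower.algebraMap_apply K K' L']
  have s4 : IsScalarTower K L Ω := IsScalarTower.of_algebraMap_eq fun x => by
    show f₂ (algebraMap K L' x) = f₂ (algebraMap L L' (algebraMap K L x))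
    rw [← IsScalarTower.algebraMap_apply K L L']
  let φ : N →ₐ[K'] Ω := { θ with commutes' := hθ₁ }
  let φK : N →ₐ[K] Ω := { θ with
    commutes' := fun x => by
      show θ (algebraMap K' N (algebraMap K K' x)) = algebraMap K Ω x
      rw [hθ₁, IsScalarTower.algebraMap_apply K K' Ω]
      rfl }
  have hφ : ∀ x, φ x = θ x := fun _ => rfl
  let EΩ : IntermediateField K Ω := E.map φK
  have hEΩfin : FiniteDimensional K EΩ :=
    Module.Finite.equiv (IntermediateField.equivMap E φK).toLinearEquiv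
  have hEΩ : ∀ x ∈ EΩ, ∃ y, φ y = x := by
    rintro x ⟨y, -, hy⟩
    exact ⟨y, hy⟩
  have hbE : ∀ i, b i ∈ E := by
    intro i
    rw [hE]
    refine ⟨Pi.single i 1, ?_⟩
    rw [Finset.sum_eq_single i]
    · simp
    · intro j _ hji
      rw [Pi.single_eq_of_ne hji]
      simp
    · intro hi; exact absurd (Finset.mem_univ i) hi
  have hT : Algebra.adjoin K' (Set.range b) = ⊤ := by
    rw [eq_top_iff]
    intro x _
    have hx : x ∈ Submodule.span K' (Set.range b) := by rw [b.span_eq]; trivial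
    exact Algebra.span_le_adjoin K' (Set.range b) hx
  have hTE : ∀ t ∈ Set.range b, φ t ∈ EΩ := by
    rintro _ ⟨i, rfl⟩
    exact ⟨b i, hbE i, rfl⟩
  have hdomO : Dominates B' ((algebraMap L' Ω).comp (algebraMap B' L')) O :=
    (dominates_comp_subtype_iff f₂ B' O).2 hO₂
  let M₀ : IntermediateField K Ω := (IsScalarTower.toAlgHom K L Ω).fieldRange ⊔ EΩ
  let f₀ : EΩ →+* M₀ := (inclusion (le_sup_right : EΩ ≤ M₀)).toRingHom
  obtain ⟨c1, -⟩ := core (A := A) (K := K) (A' := A') (K' := K') (B' := B') (L := L) (L' := L') (Ω := Ω) (K₁ := N)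
    hinj hw O hdomO φ EΩ hEΩ (Set.range b) hT hTE M₀ rfl f₀ (fun _ => rfl)
  obtain ⟨hWU, -⟩ := c1 h
  have hWU' := (RamWeak.isWeaklyUnramified_incl_iff (O.comap (algebraMap M₀ Ω)) f₀).1 hWU
  -- transfer to `M`
  have hfM : ∀ x : M, f₁ x ∈ M₀ := by
    intro x
    have hx : x ∈ Algebra.adjoin L (Set.range (algebraMap E M)) := by rw [hadj]; trivial
    induction hx using Algebra.adjoin_induction with
    | mem y hy =>
      obtain ⟨e, rfl⟩ := hy
      refine (le_sup_right : EΩ ≤ M₀) ⟨(e : N), e.2, ?_⟩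
      exact hθ₂ e
    | algebraMap l =>
      refine (le_sup_left : (IsScalarTower.toAlgHom K L Ω).fieldRange ≤ M₀) ⟨l, ?_⟩
      exact (hL l).symm
    | add x y _ _ hx hy => rw [map_add]; exact add_mem hx hy
    | mul x y _ _ hx hy => rw [map_mul]; exact mul_mem hx hy
  refine (RamWeak.isWeaklyUnramified_incl_iff W (algebraMap E M)).2 fun x hx => ?_
  subst hO₁
  obtain ⟨a, ha1, ha2⟩ := hWU' ⟨f₁ x, hfM x⟩ ((valuation_comap_lt_one_iff O (algebraMap M₀ Ω) _).2
    ((valuation_comap_lt_one_iff O f₁ x).1 hx))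
  obtain ⟨e, heE, he⟩ := a.2
  have hea : f₁ (algebraMap E M ⟨e, heE⟩) = (a : Ω) := by
    rw [← show θ e = (a : Ω) from he]
    exact (hθ₂ ⟨e, heE⟩).symm
  refine ⟨⟨e, heE⟩, ?_, ?_⟩
  · rw [valuation_comap_lt_one_iff, hea]
    exact (valuation_comap_lt_one_iff O (algebraMap M₀ Ω) (f₀ a)).1 ha1
  · rw [valuation_comap_le_iff, hea]
    exact (valuation_comap_le_iff O (algebraMap M₀ Ω) ⟨f₁ x, hfM x⟩ (f₀ a)).1 ha2

end main

end K420.WeakRefl
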